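import Cfsg.Agent.Lib.J4V.Invol.Singular

/-!
# Janko four type: every involution is conjugate into the subgroup of order `2 ^ 11`

In the normaliser an involution outside the subgroup is conjugate into `E`.
-/

set_option autoImplicit false
set_option maxRecDepth 20000
set_option linter.style.haveILetI false
set_option linter.unusedSectionVars false

namespace Cfsg.Agent.J4V.Invol

open Subgroup
open Cfsg Cfsg.Agent.Golay.Basic Cfsg.Agent.Golay.Cert Cfsg.Agent.Golay.TabList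
open Cfsg.Agent.Golay.M24 Cfsg.Agent.Golay.SylowTwoData Cfsg.Agent.Golay.SylowTwo
open Cfsg.Agent.J4Local Cfsg.Agent.J4Eleven
open Cfsg.Agent.J4V.Split (NV VN)
open Cfsg.Agent.M24CocodeSplit.Checks (imgChk)
open Checks

universe u

local notation "pG" => Equiv.Perm GolayPt

theorem repI_lt : ∀ n < 2, ∀ y ∈ repIm n, y < 2048 := by decide +kernel

/-- An involution of M24 is conjugate to one of the two listed. -/
theorem exists_conj_rep {g : ↥Cfsg.M24} (h2 : orderOf g = 2) :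
    ∃ c : ↥Cfsg.M24, ∃ n < 2, IsTab (repT n) ((c * g * c⁻¹ : ↥Cfsg.M24) : pG) := by
  haveI : Fact (Nat.Prime 2) := ⟨Nat.prime_two⟩
  obtain ⟨hTab, hmem, -⟩ := spec s24_list
  have hle : tabGroup s24Pc ≤ Cfsg.M24 := tabGroup_le_of fun t ht => by
    have h := s24_list
    simp only [listOK, Bool.and_eq_true, List.all_eq_true] at h
    exact tabPerm_mem (h.1.1.1.1 t ht)
  have hcard : Nat.card ((tabGroup s24Pc).subgroupOf Cfsg.M24) =
      2 ^ (Nat.card ↥Cfsg.M24).factorization 2 := by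
    rw [Nat.card_congr (Subgroup.subgroupOfEquivOfLe hle).toEquiv, card_tabGroup s24_list, card_M24,
      Cfsg.Agent.Golay.M24Involution.factorization_two, show s24Pc.length = 10 by decide +kernel]
  have hpz : IsPGroup 2 (Subgroup.zpowers g) := IsPGroup.of_card (n := 1)
    (by rw [Nat.card_zpowers, h2, pow_one])
  obtain ⟨P, hP⟩ := hpz.exists_le_sylow
  obtain ⟨c, hc⟩ := MulAction.exists_smul_eq ↥Cfsg.M24 P (Sylow.ofCard _ hcard)
  have hmem' : ((c * g * c⁻¹ : ↥Cfsg.M24) : pG) ∈ tabGroup s24Pc := by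
    have h1 : c * g * c⁻¹ ∈ ((c • P : Sylow 2 ↥Cfsg.M24) : Subgroup ↥Cfsg.M24) :=
      ⟨g, hP (Subgroup.mem_zpowers g), rfl⟩
    rw [hc] at h1
    exact Subgroup.mem_subgroupOf.1 h1
  obtain ⟨t, ht, et⟩ := (hmem _).1 hmem'
  have htI := (hTab t ht).1
  have hord : orderOf (tabPerm t) = 2 := by
    rw [← et, Subgroup.orderOf_coe, ← h2]
    exact MulEquiv.orderOf_eq (MulAut.conj c) g
  have hne : t ≠ idTab := by
    rintro rfl
    rw [tabPerm_idTab, orderOf_one] at hord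
    norm_num at hord
  have hsq : mulTab t t = idTab := by
    refine eq_of_isTab (canon_mulTab t t) canon_idTab (isTab_mul htI htI) ?_
    rw [← pow_two, ← hord, pow_orderOf_eq_one]
    exact isTab_one
  have hcj := conjOK_eq
  simp only [conjOK, Bool.and_eq_true, List.all_eq_true, beq_iff_eq, Bool.or_eq_true, Bool.not_eq_true',
    Nat.blt_eq] at hcj
  have hin : t ∈ conjList.map fun p => p.1 := by rw [hcj.1]; exact ht
  obtain ⟨⟨t', k, n⟩, hp, hpt⟩ := List.mem_map.1 hin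
  have hpt' : t' = t := hpt
  subst hpt'
  rcases hcj.2 _ hp with (h | h) | ⟨⟨hk, hn⟩, hmul⟩
  · exact absurd (Nat.eq_of_beq_eq_true h) hne
  · rw [hsq, show Nat.beq idTab idTab = true from Nat.beq_refl _] at h
    exact Bool.noConfusion h
  replace hn : n < 2 := hn
  refine ⟨⟨tabPerm k, tabPerm_mem hk⟩ * c, n, hn, ?_⟩
  have hR : tabOK (repT n) = true := by
    have h := coverOK_eq
    simp only [coverOK, List.all_eq_true, Bool.and_eq_true] at h
    have := (h n (by simp only [List.mem_cons, List.not_mem_nil, or_false]; omega)).1.1.1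
    simp only [imgChk, Bool.and_eq_true] at this
    exact this.1.1.1
  have e : tabPerm k * tabPerm t' = tabPerm (repT n) * tabPerm k := by
    have h1 := isTab_mul (isTab_tabPerm hk) htI
    rw [Nat.eq_of_beq_eq_true hmul] at h1
    exact h1.unique (isTab_mul (isTab_tabPerm hR) (isTab_tabPerm hk))
  have e2 : ((⟨tabPerm k, tabPerm_mem hk⟩ * c * g * (⟨tabPerm k, tabPerm_mem hk⟩ * c)⁻¹ : ↥Cfsg.M24) : pG) =
      tabPerm (repT n) := by
    have e1 : (c : pG) * g * (c : pG)⁻¹ = tabPerm t' := by rw [← et]; simp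
    simp only [Subgroup.coe_mul, Subgroup.coe_inv, mul_inv_rev]
    calc tabPerm k * (c : pG) * g * ((c : pG)⁻¹ * (tabPerm k)⁻¹)
        = tabPerm k * ((c : pG) * g * (c : pG)⁻¹) * (tabPerm k)⁻¹ := by group
      _ = _ := by rw [e1, e, mul_inv_cancel_right]
  rw [e2]
  exact isTab_tabPerm hR

namespace Model

variable {G : Type u} [Group G] [Finite G] {z : G} {P : Subgroup G} {X : Chart z P} (M : Model X)
  [IsSimpleGroup G] (hG : ¬ IsMulCommutative G)

include M in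
theorem exists_conj_NV {x : G} (hx : x * x = 1) : ∃ g : G, g * x * g⁻¹ ∈ NV X.std := by
  haveI : Fact (Nat.Prime 2) := ⟨Nat.prime_two⟩
  have hB := J4V.Big.of_eleven X.std_eleven
  obtain ⟨Q, hQ⟩ := hB.isPGroup.exists_le_sylow
  have hz2 : IsPGroup 2 (zpowers x) := fun ⟨y, hy⟩ => ⟨1, by
    obtain ⟨n, rfl⟩ := mem_zpowers_iff.1 hy
    apply Subtype.ext
    show (x ^ n) ^ (2 ^ 1) = 1
    rw [pow_one, pow_two, ← (Commute.refl x).mul_zpow, hx, one_zpow]⟩
  obtain ⟨R, hR⟩ := hz2.exists_le_sylow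
  obtain ⟨g, hg⟩ := MulAction.exists_smul_eq G R Q
  have hQN : ∀ q ∈ (Q : Subgroup G), q ∈ NV X.std := fun q hq => M22Order.mem_normalizer_of_conj fun a ha => by
    have hsub : cjS q X.std ≤ (Q : Subgroup G) := by
      rintro _ ⟨b, hb, rfl⟩
      exact mul_mem (mul_mem hq (hQ hb)) (inv_mem hq)
    have e := J4V.eq_of_common X.L.J Q.isPGroup' (hB.conj q) hB hsub hQ
    rw [← e]
    exact ⟨a, ha, rfl⟩
  refine ⟨g, hQN _ ?_⟩
  rw [← hg]
  exact ⟨x, hR (mem_zpowers x), rfl⟩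

include M hG

/-- Every involution of the group is conjugate into the subgroup of order `2 ^ 11`. -/
theorem exists_conj_mem {x : G} (hx : x * x = 1) : ∃ g : G, g * x * g⁻¹ ∈ X.std := by
  suffices h : ∀ y ∈ NV X.std, y * y = 1 → ∃ g : G, g * y * g⁻¹ ∈ X.std by
    obtain ⟨g, hg⟩ := M.exists_conj_NV hx
    obtain ⟨f, hf⟩ := h _ hg (by
      rw [show g * x * g⁻¹ * (g * x * g⁻¹) = g * (x * x) * g⁻¹ by group, hx]; group)
    exact ⟨f * g, by rw [show f * g * x * (f * g)⁻¹ = f * (g * x * g⁻¹) * f⁻¹ by group]; exact hf⟩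
  intro y hy hy2
  obtain ⟨a, ha, k, hk, rfl⟩ := M.decomp hy
  by_cases hk1 : k = 1
  · exact ⟨1, by subst hk1; simpa using M.iv_mem a⟩
  obtain ⟨a', ha', ea'⟩ := M.exists_iv (M22Order.conj_mem_of_mem_normalizer (M.hK hk) (M.iv_mem a))
  have hyy : M.iv (a ^^^ a') * (k * k) = 1 := by
    rw [M.iv_xor, ea', ← hy2]; group
  have hkk : k * k = 1 := M.inj _ (mul_mem hk hk) (by
    rw [eq_inv_of_mul_eq_one_right hyy]; exact inv_mem (M.iv_mem _))
  set σ : ↥Cfsg.M24 := M.pr ⟨k, M.hK hk⟩ with hσ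
  have hσ2 : orderOf σ = 2 := orderOf_eq_prime (by
      rw [pow_two, hσ, ← map_mul,
        show (⟨k, M.hK hk⟩ * ⟨k, M.hK hk⟩ : ↥(NV X.std)) = 1 from Subtype.ext hkk, map_one])
    fun e => hk1 (M.inj k hk ((Cfsg.Agent.M24CocodeSplit.Split.proj_eq_one (VN X.std) M.φ).1 e))
  obtain ⟨c, n, hn, hT⟩ := exists_conj_rep hσ2
  obtain ⟨γ, hγ, eγ⟩ := M.surj c
  set r := γ * k * γ⁻¹ with hr
  have hrK : r ∈ M.K := mul_mem (mul_mem hγ hk) (inv_mem hγ)
  have hrT : M.Tab (repT n) r := by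
    refine ⟨M.hK hrK, ?_⟩
    rw [show (⟨r, M.hK hrK⟩ : ↥(NV X.std)) = ⟨γ, M.hK hγ⟩ * ⟨k, M.hK hk⟩ * ⟨γ, M.hK hγ⟩⁻¹ from rfl,
      map_mul, map_mul, map_inv, eγ]
    exact hT
  obtain ⟨v, hv, ev⟩ := M.exists_iv (M22Order.conj_mem_of_mem_normalizer (M.hK hγ) (M.iv_mem a))
  have hx1 : γ * (M.iv a * k) * γ⁻¹ = M.iv v * r := by rw [ev, hr]; group
  have hsq : M.iv v * r * (M.iv v * r) = 1 := by
    rw [← hx1, show γ * (M.iv a * k) * γ⁻¹ * (γ * (M.iv a * k) * γ⁻¹) =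
      γ * (M.iv a * k * (M.iv a * k)) * γ⁻¹ by group, hy2]
    group
  have hcov := coverOK_eq
  simp only [coverOK, List.all_eq_true, Bool.and_eq_true, beq_iff_eq, List.mem_range] at hcov
  obtain ⟨⟨⟨hrimg, himgs⟩, hkeys⟩, hent⟩ :=
    hcov n (by simp only [List.mem_cons, List.not_mem_nil, or_false]; omega)
  have hr2 : r * r = 1 := by
    rw [hr, show γ * k * γ⁻¹ * (γ * k * γ⁻¹) = γ * (k * k) * γ⁻¹ by group, hkk]; group
  have hfix : enc (repIm n) v = v := by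
    refine M.iv_inj (enc_lt _ (repI_lt n hn) v) hv ?_
    rw [← M.conj_iv hrimg hrT]
    calc r * M.iv v * r⁻¹ = (M.iv v)⁻¹ * (M.iv v * r * (M.iv v * r)) * r⁻¹ * r⁻¹ := by group
      _ = (M.iv v)⁻¹ * (r * r)⁻¹ := by rw [hsq]; group
      _ = M.iv v := by rw [hr2, inv_one, mul_one, M.iv_inv]
  have hmemk : v ∈ (covL n).map fun e => e % 2048 := by
    rw [hkeys, List.mem_filter, List.mem_range, hfix]
    exact ⟨hv, Nat.beq_refl _⟩
  obtain ⟨e, he, hev⟩ := List.mem_map.1 hmemk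
  have hev' : e % 2048 = v := hev
  have hE := hent e he
  simp only [entryOK, Bool.and_eq_true, Nat.blt_eq, hev'] at hE
  obtain ⟨⟨⟨hlen, ho⟩, hW⟩, hmul⟩ := hE
  set cc := e / 2048 % 2048
  set t := (covT n).getD (e / 4194304) idTab
  set gi := (covI n).getD (e / 4194304) []
  set o := (covO n).getD (e / 4194304) 0
  have himg := himgs _ hlen
  obtain ⟨η, hη, hηT⟩ := M.exists_K (t := t) (by
    simp only [imgChk, Bool.and_eq_true] at himg; exact himg.1.1.1)
  have hrel : η * r = M.kO o * η := M.K_eq (mul_mem hη hrK) (mul_mem (M.kO_mem ho).1 hη)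
    (hηT.mul hrT) (by rw [Nat.eq_of_beq_eq_true hmul]; exact (M.kO_mem ho).2.mul hηT)
  set f := η * M.iv cc * γ with hf
  have hx3 : f * (M.iv a * k) * f⁻¹ = M.iv (enc gi (v ^^^ cc ^^^ enc (repIm n) cc)) * M.kO o := by
    rw [← M.conj_iv himg hηT, M.iv_xor, M.iv_xor, ← M.conj_iv hrimg hrT, hf]
    rw [show η * M.iv cc * γ * (M.iv a * k) * (η * M.iv cc * γ)⁻¹ =
      η * (M.iv cc * (γ * (M.iv a * k) * γ⁻¹) * (M.iv cc)⁻¹) * η⁻¹ by group, hx1, M.iv_inv,
      ← mul_assoc (M.iv cc) (M.iv v) r, M.iv_comm cc v]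
    calc η * (M.iv v * M.iv cc * r * M.iv cc) * η⁻¹
        = η * (M.iv v * M.iv cc * (r * M.iv cc * r⁻¹)) * η⁻¹ * (η * r) * η⁻¹ := by group
      _ = _ := by rw [hrel]; group
  have hxE : f * (M.iv a * k) * f⁻¹ ∈ EE z := hx3 ▸ mul_mem (M.iv_EE hG hW) (M.kO_EE hG ho)
  obtain ⟨d, hd⟩ := M.EE_conj_std hG hxE (by
    rw [show f * (M.iv a * k) * f⁻¹ * (f * (M.iv a * k) * f⁻¹) =
      f * (M.iv a * k * (M.iv a * k)) * f⁻¹ by group, hy2]
    group)
  exact ⟨d * f, by rw [show d * f * (M.iv a * k) * (d * f)⁻¹ = d * (f * (M.iv a * k) * f⁻¹) * d⁻¹ by group]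
                   exact hd⟩

end Model

end Cfsg.Agent.J4V.Invol
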