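import Cfsg.Agent.Lib.J4V.Inst
import Cfsg.Agent.Lib.J4V.Invol.Main

/-!
# Janko four type: two classes of involutions

* `exists_conj_std`: every involution is conjugate into the subgroup of order `2 ^ 11`;
* `exists_conj_DD`: one not conjugate to `z` is conjugate to one of the 276 others;
* `classes`: there are exactly two classes of involutions.
-/

set_option autoImplicit false
set_option linter.style.haveILetI false
set_option linter.unusedSectionVars false

namespace Cfsg.Agent.J4V.Invol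

open Subgroup
open Cfsg.Agent.J4Local Cfsg.Agent.J4Eleven

universe u

variable {G : Type u} [Group G] [Finite G] [IsSimpleGroup G] (hG : ¬ IsMulCommutative G)

include hG

theorem exists_conj_std {z : G} {P : Subgroup G} (X : Chart z P) {y : G} (hy : y * y = 1) :
    ∃ g : G, g * y * g⁻¹ ∈ X.std := by
  obtain ⟨φ, ε, e1, e2, e3, e4, e5⟩ := X.exists_phi_eps hG
  obtain ⟨M⟩ := exists_model hG (⟨φ, ε, e1, e2, e3, e4, e5⟩ : Ident X)
  exact M.exists_conj_mem hG hy

theorem exists_conj_DD {z : G} {P : Subgroup G} (X : Chart z P) {y : G} (hy : orderOf y = 2)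
    (hn : ¬ IsConj z y) : ∃ g : G, g * y * g⁻¹ ∈ X.DD := by
  obtain ⟨g, hg⟩ := exists_conj_std hG X (show y * y = 1 by rw [← pow_two, ← hy, pow_orderOf_eq_one])
  refine ⟨g, hg, fun e => ?_, fun h => hn (h.trans (isConj_iff.2 ⟨g, rfl⟩).symm)⟩
  rw [conj_eq_one_iff] at e
  rw [e, orderOf_one] at hy
  norm_num at hy

/-- There are exactly two classes of involutions. -/
theorem classes (z : G) (hJ : Cfsg.IsOfJankoFourTypeAt z) :
    ∃ t : G, orderOf t = 2 ∧ ¬ IsConj z t ∧ ∀ y : G, orderOf y = 2 → IsConj y z ∨ IsConj y t := by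
  obtain ⟨P, hP⟩ := hJ
  obtain ⟨X⟩ := exists_chart hP
  obtain ⟨t, ht, ht1, htn⟩ := Set.nonempty_of_ncard_ne_zero
    (show {v | v ∈ X.std ∧ v ≠ 1 ∧ ¬ IsConj z v}.ncard ≠ 0 by rw [X.others_ncard hG]; norm_num)
  refine ⟨t, orderOf_eq_prime (by rw [pow_two]; exact X.std_eleven.sq t ht) ht1, htn, fun y hy => ?_⟩
  by_cases hz : IsConj z y
  · exact Or.inl hz.symm
  obtain ⟨g, hg, hg1, hgn⟩ := exists_conj_DD hG X hy hz
  obtain ⟨n, -, e⟩ := X.others_conj hG hg hg1 hgn ht ht1 htn
  exact Or.inr (isConj_iff.2 ⟨n * g, by rw [← e]; group⟩)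

end Cfsg.Agent.J4V.Invol
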