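import Cfsg.Agent.Lib.J4V.Invol.Main
import Cfsg.Agent.Lib.Golay.AutM22
import Cfsg.Agent.Lib.J4Local.Three

/-!
# Janko four type: the centraliser of an involution not conjugate to `z`

In the complement the centraliser of a pair is the stabiliser of the pair in M24, the automorphism group of
M22.
-/

set_option autoImplicit false
set_option maxRecDepth 20000
set_option linter.style.haveILetI false
set_option linter.unusedSectionVars false

namespace Cfsg.Agent.J4V.Invol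

open Subgroup
open Cfsg Cfsg.Agent.Golay.Basic Cfsg.Agent.Golay.Cert Cfsg.Agent.Golay.TabList
open Cfsg.Agent.Golay.M24 Cfsg.Agent.Golay.AutM22 Cfsg.Agent.Golay.AutBig
open Cfsg.Agent.J4Local Cfsg.Agent.J4Eleven
open Cfsg.Agent.J4V.Split (NV VN)
open Checks

universe u

local notation "pG" => Equiv.Perm GolayPt

/-- Permutations of M24 fixing the pair of extra points. -/
def PairStab : Subgroup pG where
  carrier := {σ | σ ∈ Cfsg.M24 ∧ ((σ ea = ea ∧ σ eb = eb) ∨ (σ ea = eb ∧ σ eb = ea))}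
  one_mem' := ⟨one_mem _, Or.inl ⟨rfl, rfl⟩⟩
  mul_mem' := fun {a b} ha hb => ⟨mul_mem ha.1 hb.1, by
    rcases ha.2 with ⟨a1, a2⟩ | ⟨a1, a2⟩ <;> rcases hb.2 with ⟨b1, b2⟩ | ⟨b1, b2⟩ <;>
      simp [Equiv.Perm.mul_apply, a1, a2, b1, b2]⟩
  inv_mem' := fun {a} ha => ⟨inv_mem ha.1, by
    rcases ha.2 with ⟨a1, a2⟩ | ⟨a1, a2⟩
    · exact Or.inl ⟨Equiv.Perm.inv_eq_iff_eq.2 a1.symm, Equiv.Perm.inv_eq_iff_eq.2 a2.symm⟩
    · exact Or.inr ⟨Equiv.Perm.inv_eq_iff_eq.2 a2.symm, Equiv.Perm.inv_eq_iff_eq.2 a1.symm⟩⟩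

theorem pairStab_normalizes {σ : pG} (hσ : σ ∈ PairStab) {g : pG} (hg : g ∈ Spor.M22) :
    σ * g * σ⁻¹ ∈ Spor.M22 := by
  rw [M22_eq, mem_K22] at hg ⊢
  refine ⟨mul_mem (mul_mem hσ.1 hg.1) (inv_mem hσ.1), ?_⟩
  have h := (inv_mem hσ).2
  rcases hσ.2 with ⟨a1, a2⟩ | ⟨a1, a2⟩
  · rw [Equiv.Perm.mul_apply, Equiv.Perm.mul_apply, Equiv.Perm.mul_apply, Equiv.Perm.mul_apply,
      Equiv.Perm.inv_eq_iff_eq.2 a1.symm, Equiv.Perm.inv_eq_iff_eq.2 a2.symm, hg.2.1, hg.2.2]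
    exact ⟨a1, a2⟩
  · rw [Equiv.Perm.mul_apply, Equiv.Perm.mul_apply, Equiv.Perm.mul_apply, Equiv.Perm.mul_apply,
      Equiv.Perm.inv_eq_iff_eq.2 a1.symm, Equiv.Perm.inv_eq_iff_eq.2 a2.symm, hg.2.1, hg.2.2]
    exact ⟨a2, a1⟩

/-- Conjugation of M22 by an element fixing the pair. -/
def pairAut (σ : ↥PairStab) : MulAut ↥Spor.M22 where
  toFun g := ⟨(σ : pG) * g * (σ : pG)⁻¹, pairStab_normalizes σ.2 g.2⟩
  invFun g := ⟨(σ : pG)⁻¹ * g * σ, by
    simpa using pairStab_normalizes (inv_mem σ.2) g.2⟩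
  left_inv g := Subtype.ext (by show (σ : pG)⁻¹ * ((σ : pG) * g * (σ : pG)⁻¹) * σ = g; group)
  right_inv g := Subtype.ext (by show (σ : pG) * ((σ : pG)⁻¹ * g * σ) * (σ : pG)⁻¹ = g; group)
  map_mul' g h := Subtype.ext (by
    show (σ : pG) * (g * h) * (σ : pG)⁻¹ = (σ : pG) * g * (σ : pG)⁻¹ * ((σ : pG) * h * (σ : pG)⁻¹)
    group)

/-- The map of the stabiliser of the pair to the automorphisms of M22. -/
def pairHom : ↥PairStab →* MulAut ↥Spor.M22 :=
  MonoidHom.mk' pairAut fun a b => MulEquiv.ext fun g => Subtype.ext (by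
    show ((a : pG) * b) * g * ((a : pG) * b)⁻¹ = (a : pG) * ((b : pG) * g * (b : pG)⁻¹) * (a : pG)⁻¹
    group)

theorem pairHom_injective : Function.Injective pairHom := by
  refine (injective_iff_map_eq_one pairHom).2 fun σ hσ => ?_
  have hcomm : ∀ g ∈ Spor.M22, (σ : pG) * g = g * σ := fun g hg => by
    have h := congrArg Subtype.val (MulEquiv.congr_fun hσ ⟨g, hg⟩)
    exact mul_inv_eq_iff_eq_mul.1 h
  have hfix : ∀ p, p ≠ ea → p ≠ eb → (σ : pG) p = p := by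
    intro p hpa hpb
    by_contra hne
    have hqa : (σ : pG) p ≠ ea := by
      intro e
      rcases σ.2.2 with ⟨a1, a2⟩ | ⟨a1, a2⟩
      · exact hpa ((σ : pG).injective (e.trans a1.symm))
      · exact hpb ((σ : pG).injective (e.trans a2.symm))
    have hqb : (σ : pG) p ≠ eb := by
      intro e
      rcases σ.2.2 with ⟨a1, a2⟩ | ⟨a1, a2⟩
      · exact hpb ((σ : pG).injective (e.trans a2.symm))
      · exact hpa ((σ : pG).injective (e.trans a1.symm))
    obtain ⟨q, h1, h2, h3, h4⟩ : ∃ q, q ≠ ea ∧ q ≠ eb ∧ q ≠ p ∧ q ≠ (σ : pG) p := by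
      classical
      have : ({ea, eb, p, (σ : pG) p} : Finset GolayPt)ᶜ.Nonempty := by
        rw [← Finset.card_pos, Finset.card_compl]
        have h4 := Finset.card_le_four (a := ea) (b := eb) (c := p) (d := (σ : pG) p)
        have h24 : Fintype.card GolayPt = 24 := Cfsg.Agent.Golay.Sextet.card_pts
        omega
      obtain ⟨q, hq⟩ := this
      simp only [Finset.mem_compl, Finset.mem_insert, Finset.mem_singleton, not_or] at hq
      exact ⟨q, hq.1, hq.2.1, hq.2.2.1, hq.2.2.2⟩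
    have hab : ea ≠ eb := by decide
    obtain ⟨g, hg, he⟩ := exists_map_injOn (x := [ea, eb, p, (σ : pG) p]) (y := [ea, eb, p, q])
      (by simp [hab, Ne.symm hpa, Ne.symm hpb, Ne.symm hqa, Ne.symm hqb, Ne.symm hne])
      (by simp [hab, Ne.symm hpa, Ne.symm hpb, Ne.symm h1, Ne.symm h2, Ne.symm h3]) rfl (by simp)
    have g1 : g ea = ea := he 0 (by simp)
    have g2 : g eb = eb := he 1 (by simp)
    have g3 : g p = p := he 2 (by simp)
    have g4 : g ((σ : pG) p) = q := he 3 (by simp)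
    have h := congrArg (fun f : pG => f p) (hcomm g (by rw [M22_eq, mem_K22]; exact ⟨hg, g1, g2⟩))
    simp only [Equiv.Perm.mul_apply, g3, g4] at h
    exact h4 h.symm
  apply Subtype.ext
  by_contra hne
  have hsq : (σ : pG) * σ = 1 := by
    ext p : 1
    rw [Equiv.Perm.mul_apply, Equiv.Perm.one_apply]
    by_cases ha : p = ea
    · subst ha; rcases σ.2.2 with ⟨a1, a2⟩ | ⟨a1, a2⟩ <;> simp [a1, a2]
    by_cases hb : p = eb
    · subst hb; rcases σ.2.2 with ⟨a1, a2⟩ | ⟨a1, a2⟩ <;> simp [a1, a2]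
    rw [hfix p ha hb, hfix p ha hb]
  have h2 : orderOf (⟨(σ : pG), σ.2.1⟩ : ↥Cfsg.M24) = 2 := orderOf_eq_prime
    (by rw [pow_two]; exact Subtype.ext hsq) fun e => hne (congrArg (fun x : ↥Cfsg.M24 => (x : pG)) e)
  rcases Cfsg.Agent.Golay.M24Involution.involution_cases h2 with ⟨o, ho, hoq⟩ | ⟨c, hc⟩
  · classical
    have hsub : ({ea, eb} : Finset GolayPt)ᶜ ⊆ o := fun p hp => by
      simp only [Finset.mem_compl, Finset.mem_insert, Finset.mem_singleton, not_or] at hp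
      exact (hoq p).1 (hfix p hp.1 hp.2)
    have h := Finset.card_le_card hsub
    rw [Finset.card_compl, Cfsg.Agent.Golay.Sextet.card_pts, Cfsg.Agent.Golay.Design.octad_card ho] at h
    have := Finset.card_le_two (a := ea) (b := eb)
    omega
  · have e := hfix (pt 1) (by decide) (by decide)
    have e' : (σ : pG) = (c : pG) * Cfsg.Agent.Golay.M24Involution.freeInv * (c : pG)⁻¹ := congrArg Subtype.val hc
    rw [e', Equiv.Perm.mul_apply, Equiv.Perm.mul_apply, ← Equiv.Perm.eq_inv_iff_eq] at e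
    exact Cfsg.Agent.Golay.M24Involution.freeInv_ne _ e

namespace Model

variable {G : Type u} [Group G] [Finite G] {z : G} {P : Subgroup G} {X : Chart z P} (M : Model X)
  [IsSimpleGroup G] (hG : ¬ IsMulCommutative G)

/-- The pair of the two extra points. -/
noncomputable def d0 : G := M.iv (vx 23 0)

theorem pr_mem_pairStab {k : G} (hk : k ∈ M.K) (hc : k ∈ centralizer ({M.d0} : Set G)) :
    ((M.pr ⟨k, M.hK hk⟩ : ↥Cfsg.M24) : pG) ∈ PairStab := by
  set σ : pG := ((M.pr ⟨k, M.hK hk⟩ : ↥Cfsg.M24) : pG) with hσ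
  refine ⟨(M.pr ⟨k, M.hK hk⟩ : ↥Cfsg.M24).2, ?_⟩
  have h := M.conj_pair (M.hK hk) (show 23 < 24 by norm_num) (show 0 < 24 by norm_num)
  rw [show k * M.iv (vx 23 0) * k⁻¹ = M.iv (vx 23 0) from
    mul_inv_eq_iff_eq_mul.2 (mem_centralizer_singleton_iff.1 hc)] at h
  have hne : M.im ⟨k, M.hK hk⟩ 23 ≠ M.im ⟨k, M.hK hk⟩ 0 := fun e => by
    have := congrArg ix (σ.injective (ix_injective e))
    rw [ix_pt (by norm_num), ix_pt (by norm_num)] at this
    omega
  have h' := M.iv_inj (duads_facts.2.2.2.2.2.2 _ (mem_duads (by norm_num) (by norm_num) (by norm_num)))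
    (duads_facts.2.2.2.2.2.2 _ (mem_duads (a := M.im ⟨k, M.hK hk⟩ 23) (b := M.im ⟨k, M.hK hk⟩ 0)
      (ix_lt _) (ix_lt _) hne)) h
  have ha : ea = pt 23 := by decide
  have hb : eb = pt 0 := by decide
  have hia : ix ea = 23 := by decide
  have hib : ix eb = 0 := by decide
  rcases pair_inj (by norm_num) (by norm_num) (ix_lt _) (ix_lt _) (by norm_num) hne h' with ⟨e1, e2⟩ | ⟨e1, e2⟩ <;>
    simp only [Ident.im, ← hσ, ← ha, ← hb] at e1 e2
  · exact Or.inl ⟨ix_injective (e1.symm.trans hia.symm), ix_injective (e2.symm.trans hib.symm)⟩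
  · exact Or.inr ⟨ix_injective (e2.symm.trans hib.symm), ix_injective (e1.symm.trans hia.symm)⟩

include hG

theorem d0_other : M.d0 ∈ X.std ∧ M.d0 ≠ 1 ∧ ¬ IsConj z M.d0 := by
  have hm : M.d0 ∈ M.duadSet := ⟨_, mem_duads (by norm_num) (by norm_num) (by norm_num), rfl⟩
  rwa [← M.others_eq hG] at hm

theorem card_stab : Nat.card ↥(M.K ⊓ centralizer ({M.d0} : Set G)) = 887040 := by
  have hN : Nat.card ↥M.K = 244823040 := by
    rw [← card_M24]
    refine Nat.card_congr (Equiv.ofBijective (fun k : M.K => M.pr ⟨k, M.hK k.2⟩) ⟨fun a b h => ?_, fun m => ?_⟩)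
    · have h' : (⟨a, M.hK a.2⟩ * ⟨b, M.hK b.2⟩⁻¹ : ↥(NV X.std)) ∈ VN X.std := by
        rw [← Cfsg.Agent.M24CocodeSplit.Split.proj_eq_one (VN X.std) M.φ, map_mul, map_inv, mul_inv_eq_one]
        exact h
      exact Subtype.ext (mul_inv_eq_one.1 (M.inj _ (mul_mem a.2 (inv_mem b.2)) h'))
    · obtain ⟨k, hk, e⟩ := M.surj m
      exact ⟨⟨k, hk⟩, e⟩
  letI : MulAction ↥M.K G := MulAction.compHom G (ConjAct.toConjAct.toMonoidHom.comp M.K.subtype)
  have hsm : ∀ (k : ↥M.K) (x : G), k • x = (k : G) * x * (k : G)⁻¹ := fun k x => rfl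
  have horb : MulAction.orbit ↥M.K M.d0 = {v | v ∈ X.std ∧ v ≠ 1 ∧ ¬ IsConj z v} := by
    ext v
    constructor
    · rintro ⟨k, rfl⟩
      show k • M.d0 ∈ _
      rw [hsm, M.others_eq hG]
      exact M.duadSet_conj (M.hK k.2) (by rw [← M.others_eq hG]; exact M.d0_other hG)
    · intro hv
      obtain ⟨n, hn, e⟩ := X.others_conj hG (M.d0_other hG).1 (M.d0_other hG).2.1 (M.d0_other hG).2.2
        hv.1 hv.2.1 hv.2.2
      obtain ⟨a, -, k, hk, rfl⟩ := M.decomp hn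
      refine ⟨⟨k, hk⟩, ?_⟩
      show (⟨k, hk⟩ : ↥M.K) • M.d0 = v
      rw [hsm, ← e]
      have hk' := M22Order.conj_mem_of_mem_normalizer (M.hK hk) (M.d0_other hG).1
      rw [show M.iv a * k * M.d0 * (M.iv a * k)⁻¹ = M.iv a * (k * M.d0 * k⁻¹) * (M.iv a)⁻¹ by group,
        X.std_eleven.comm _ (M.iv_mem a) _ hk', mul_inv_cancel_right]
  have hst : (MulAction.stabilizer ↥M.K M.d0).map M.K.subtype = M.K ⊓ centralizer ({M.d0} : Set G) := by
    ext k
    constructor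
    · rintro ⟨⟨k, hk⟩, h, rfl⟩
      exact ⟨hk, mem_centralizer_singleton_iff.2 (mul_inv_eq_iff_eq_mul.1 h)⟩
    · rintro ⟨hk, hc⟩
      exact ⟨⟨k, hk⟩, mul_inv_eq_iff_eq_mul.2 (mem_centralizer_singleton_iff.1 hc), rfl⟩
  have h := (MulAction.stabilizer ↥M.K M.d0).card_mul_index
  rw [MulAction.index_stabilizer, horb, X.others_ncard hG, hN] at h
  rw [← hst, ← Nat.card_congr ((MulAction.stabilizer ↥M.K M.d0).equivMapOfInjective _
    M.K.subtype_injective).toEquiv]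
  omega

theorem stab_iso : Nonempty (↥(M.K ⊓ centralizer ({M.d0} : Set G)) ≃* MulAut ↥Spor.M22) := by
  haveI : Finite (MulAut ↥Spor.M22) :=
    Finite.of_injective (fun e : MulAut ↥Spor.M22 => e.toEquiv) fun a b h =>
      MulEquiv.ext fun x => Equiv.congr_fun h x
  let S : Subgroup G := M.K ⊓ centralizer ({M.d0} : Set G)
  let f : ↥S →* ↥PairStab := MonoidHom.mk'
    (fun k => ⟨((M.pr ⟨k, M.hK k.2.1⟩ : ↥Cfsg.M24) : pG), M.pr_mem_pairStab k.2.1 k.2.2⟩)
    fun a b => Subtype.ext (by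
      show ((M.pr ⟨(a : G) * b, _⟩ : ↥Cfsg.M24) : pG) = _
      exact congrArg Subtype.val (map_mul M.pr ⟨a, M.hK a.2.1⟩ ⟨b, M.hK b.2.1⟩))
  have hf : Function.Injective f := fun a b h => by
    have h1 : M.pr ⟨a, M.hK a.2.1⟩ = M.pr ⟨b, M.hK b.2.1⟩ :=
      Subtype.ext (congrArg (fun x : ↥PairStab => (x : pG)) h)
    have h' : (⟨a, M.hK a.2.1⟩ * ⟨b, M.hK b.2.1⟩⁻¹ : ↥(NV X.std)) ∈ VN X.std := by
      rw [← Cfsg.Agent.M24CocodeSplit.Split.proj_eq_one (VN X.std) M.φ, map_mul, map_inv, mul_inv_eq_one]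
      exact h1
    exact Subtype.ext (mul_inv_eq_one.1 (M.inj _ (mul_mem a.2.1 (inv_mem b.2.1)) h'))
  refine ⟨MulEquiv.ofBijective (pairHom.comp f) ?_⟩
  rw [Nat.bijective_iff_injective_and_card]
  exact ⟨pairHom_injective.comp hf, (M.card_stab hG).trans card_mulAut_m22.symm⟩

end Model

end Cfsg.Agent.J4V.Invol
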