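import Cfsg.Agent.Lib.M24CocodeSplit.Checks
import Cfsg.Agent.Lib.J4V.Invol.Data

/-!
# Kernel checks of the tables for the involutions of the normaliser of the subgroup of order `2 ^ 11`
-/

set_option autoImplicit false
set_option maxRecDepth 20000

namespace Cfsg.Agent.J4V.Invol.Checks

open Cfsg Cfsg.Agent.Golay.Basic Cfsg.Agent.Golay.Cert Cfsg.Agent.Golay.TabList
open Cfsg.Agent.Golay.M24 Cfsg.Agent.Golay.SylowTwoData
open Cfsg.Agent.M24CocodeSplit.Checks (imgChk)

/-- The coordinates of a pair of points. -/
def vx (a b : ℕ) : ℕ :=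
  Cfsg.Agent.M24CocodeSplit.Data.even.getD a 0 ^^^ Cfsg.Agent.M24CocodeSplit.Data.even.getD b 0

/-- The coordinates of the pairs. -/
def duads : List ℕ := (List.range 24).flatMap fun a => (List.range a).map fun b => vx a b

/-- The pairs are different from each other, from zero and from the sextet. -/
def duadOK : Bool :=
  Nat.beq duads.length 276 && decide duads.Nodup && !duads.contains 0 && !duads.contains Data.sigma &&
    Nat.blt Data.sigma 2048 && !Nat.beq Data.sigma 0 && duads.all fun x => Nat.blt x 2048

theorem duadOK_eq : duadOK = true := by decide +kernel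

/-- The spanning vectors of the part in `E`. -/
def wGens : List ℕ := Data.gensW.map fun q => vx q.1 q.2.1

/-- The part in `E`. -/
def wList : List ℕ := (List.range 128).map (enc wGens)

/-- Membership in the part in `E`. -/
def inW (x : ℕ) : Bool := wList.contains x

/-- Two pairs making up a tetrad of the sextet. -/
def quadOK (a b c d : ℕ) : Bool :=
  Nat.blt a 24 && Nat.blt b 24 && Nat.blt c 24 && Nat.blt d 24 && !Nat.beq a b && !Nat.beq c d &&
    Nat.beq (vx a b ^^^ Data.sigma) (vx c d)

/-- The spanning vectors are pairs in tetrads and span 128 vectors. -/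
def spanOK : Bool :=
  (Data.gensW.all fun q => quadOK q.1 q.2.1 q.2.2.1 q.2.2.2) && decide wList.Nodup &&
    wList.all (fun x => Nat.blt x 2048) && inW Data.sigma && inW 0

theorem spanOK_eq : spanOK = true := by decide +kernel

/-- The tetrads cover the points and their pairs lie in the part in `E`. -/
def tetOK : Bool :=
  (Data.tet.all fun q =>
    quadOK q.1 q.2.1 q.2.2.1 q.2.2.2 && quadOK q.1 q.2.2.1 q.2.1 q.2.2.2 &&
      quadOK q.1 q.2.2.2 q.2.1 q.2.2.1 && inW (vx q.1 q.2.1) && inW (vx q.1 q.2.2.1) &&
      inW (vx q.1 q.2.2.2)) &&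
    Nat.beq Data.tet.length 6 &&
    (List.range 24).all fun i => Data.tet.any fun q =>
      Nat.beq i q.1 || Nat.beq i q.2.1 || Nat.beq i q.2.2.1 || Nat.beq i q.2.2.2

theorem tetOK_eq : tetOK = true := by decide +kernel

/-- Acting as an element of the four group on a tetrad. -/
def v4 (f : ℕ → ℕ) (q : ℕ × ℕ × ℕ × ℕ) : Bool :=
  match q with
  | (a, b, c, d) =>
    (Nat.beq (f a) a && Nat.beq (f b) b && Nat.beq (f c) c && Nat.beq (f d) d) ||
    (Nat.beq (f a) b && Nat.beq (f b) a && Nat.beq (f c) d && Nat.beq (f d) c) ||
    (Nat.beq (f a) c && Nat.beq (f b) d && Nat.beq (f c) a && Nat.beq (f d) b) ||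
    (Nat.beq (f a) d && Nat.beq (f b) c && Nat.beq (f c) b && Nat.beq (f d) a)

/-- An element fixing the tetrads. -/
def oT (i : ℕ) : ℕ := Data.oL.getD i idTab

/-- Its images of the basis. -/
def oIm (i : ℕ) : List ℕ := Data.oI.getD i []

/-- The elements fixing the tetrads. -/
def fixOK : Bool :=
  Nat.beq (oT 0) idTab && Nat.beq Data.oL.length 64 && decide Data.oL.Nodup &&
    (List.range 6).all (fun j => Nat.beq (oT (2 ^ j)) (Data.oG.getD j idTab) &&
      (List.range (2 ^ j)).all fun i => Nat.beq (oT (2 ^ j + i)) (mulTab (Data.oG.getD j idTab) (oT i))) &&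
    (List.range 64).all fun i => imgChk (oT i) (oIm i) && Nat.beq (mulTab (oT i) (oT i)) idTab &&
      Data.tet.all (v4 (tabAt (oT i)))

theorem fixOK_eq : fixOK = true := by decide +kernel

/-- The element of order three and the commutators. -/
def threeOK : Bool :=
  imgChk Data.rT Data.rI && Nat.beq (enc Data.rI Data.sigma) Data.sigma &&
    (List.range 11).all (fun j => inW (enc Data.rI (2 ^ j) ^^^ 2 ^ j)) &&
    (List.range 6).all fun j => Nat.blt (Data.comI.getD j 0) 64 &&
      Nat.beq (mulTab (oT (2 ^ j)) (mulTab (oT (Data.comI.getD j 0)) Data.rT))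
        (mulTab Data.rT (oT (Data.comI.getD j 0)))

theorem threeOK_eq : threeOK = true := by decide +kernel

/-- The two involutions. -/
def repT (n : ℕ) : ℕ := Data.repT.getD n idTab

/-- Their images of the basis. -/
def repIm (n : ℕ) : List ℕ := Data.repI.getD n []

/-- The conjugators with their classes. -/
def conjList : List (ℕ × ℕ × ℕ) := List.zip s24Elems (List.zip Data.conjT Data.conjC)

/-- Every involution of the Sylow subgroup is conjugate to one of the two. -/
def conjOK : Bool :=
  (conjList.map fun p => p.1) == s24Elems &&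
    conjList.all fun p => Nat.beq p.1 idTab || !Nat.beq (mulTab p.1 p.1) idTab ||
      (tabOK p.2.1 && Nat.blt p.2.2 2 && Nat.beq (mulTab p.2.1 p.1) (mulTab (repT p.2.2) p.2.1))

theorem conjOK_eq : conjOK = true := by decide +kernel

/-- The covers. -/
def covL : ℕ → List ℕ
  | 0 => Data.cov0
  | _ => Data.cov1

/-- The movers. -/
def covT : ℕ → List ℕ
  | 0 => Data.covT0
  | _ => Data.covT1

/-- Their images of the basis. -/
def covI : ℕ → List (List ℕ)
  | 0 => Data.covI0
  | _ => Data.covI1

/-- The conjugated involutions. -/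
def covO : ℕ → List ℕ
  | 0 => Data.covO0
  | _ => Data.covO1

/-- An entry of a cover. -/
def entryOK (n e : ℕ) : Bool :=
  match e % 2048, e / 2048 % 2048, e / 4194304 with
  | v, c, h =>
    match (covT n).getD h idTab, (covI n).getD h [], (covO n).getD h 0 with
    | t, gi, o => Nat.blt h (covT n).length && Nat.blt o 64 &&
        inW (enc gi (v ^^^ c ^^^ enc (repIm n) c)) && Nat.beq (mulTab t (repT n)) (mulTab (oT o) t)

/-- The fixed vectors of the two involutions are covered. -/
def coverOK : Bool :=
  [0, 1].all fun n => imgChk (repT n) (repIm n) &&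
    (List.range (covT n).length).all (fun h => imgChk ((covT n).getD h idTab) ((covI n).getD h [])) &&
    ((covL n).map fun e => e % 2048) == (List.range 2048).filter (fun x => Nat.beq (enc (repIm n) x) x) &&
    (covL n).all (entryOK n)

theorem coverOK_eq : coverOK = true := by decide +kernel

/-- A representative of the part in `E` modulo the sextet. -/
def whAt (j : ℕ) : ℕ := Data.wh.getD j 0

/-- Agreement modulo the sextet. -/
def same (x y : ℕ) : Bool := Nat.beq x y || Nat.beq x (y ^^^ Data.sigma)

/-- The representatives of the part in `E` modulo the sextet. -/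
def halfOK : Bool :=
  Nat.beq Data.wh.length 64 && decide Data.wh.Nodup &&
    Data.wh.all (fun x => inW x && !Data.wh.contains (x ^^^ Data.sigma)) &&
    wList.all fun x => Data.wh.contains x || Data.wh.contains (x ^^^ Data.sigma)

theorem halfOK_eq : halfOK = true := by decide +kernel

/-- An element fixing the sextet. -/
def kapT (n : ℕ) : ℕ := Data.kapT.getD n idTab

/-- Its images of the basis. -/
def kapIm (n : ℕ) : List ℕ := Data.kapI.getD n []

/-- Its permutation of the elements fixing the tetrads. -/
def kapP (n i : ℕ) : ℕ := (Data.kapP.getD n []).getD i 0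

/-- The elements fixing the sextet act as listed. -/
def kapOK : Bool :=
  [0, 1].all fun n => imgChk (kapT n) (kapIm n) && Nat.beq (enc (kapIm n) Data.sigma) Data.sigma &&
    (List.range 64).all fun i => Nat.blt (kapP n i) 64 &&
      Nat.beq (mulTab (kapT n) (oT i)) (mulTab (oT (kapP n i)) (kapT n))

theorem kapOK_eq : kapOK = true := by decide +kernel

/-- A singular code outside the part in the subgroup. -/
def sing (c : ℕ) : Bool :=
  Nat.ble 64 c && Nat.blt c 4096 && Nat.beq (enc (oIm (c / 64)) (whAt (c % 64))) (whAt (c % 64))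

/-- A step of an orbit tree. -/
def step (g a b : ℕ) : Bool :=
  cond (Nat.blt g 11)
    (Nat.beq (b / 64) (a / 64) &&
      same (whAt (b % 64)) (whAt (a % 64) ^^^ 2 ^ g ^^^ enc (oIm (a / 64)) (2 ^ g)))
    (Nat.blt g 13 && Nat.beq (b / 64) (kapP (g - 11) (a / 64)) &&
      same (whAt (b % 64)) (enc (kapIm (g - 11)) (whAt (a % 64))))

/-- An orbit tree reaches exactly its mask. -/
def treeOK : List ℕ → ℕ → ℕ → Bool
  | [], seen, target => Nat.beq seen target
  | e :: es, seen, target =>
    match e % 4096, e / 4096 % 4096, e / 16777216 with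
    | b, a, g => seen.testBit a && step g a b && treeOK es (seen ||| 1 <<< b) target

/-- The trees. -/
def tree : ℕ → List ℕ
  | 0 => Data.tree0
  | 1 => Data.tree1
  | 2 => Data.tree2
  | _ => Data.tree3

/-- The masks. -/
def omask (k : ℕ) : ℕ := Data.masks.getD k 0

/-- The roots. -/
def root (k : ℕ) : ℕ := Data.roots.getD k 0

/-- The number of codes of an orbit. -/
def osize : ℕ → ℕ
  | 0 => 360
  | 1 => 1080
  | _ => 288

/-- The four orbits. -/
def orbitOK : Bool :=
  (List.range 4).all (fun k => Nat.blt (root k) 4096 && treeOK (tree k) (1 <<< root k) (omask k) &&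
    Nat.beq ((List.range 4096).filter fun c => (omask k).testBit c).length (osize k) &&
    (List.range k).all fun l => Nat.beq (omask k &&& omask l) 0) &&
  (List.range 4096).all fun c => sing c == (List.range 4).any fun k => (omask k).testBit c

theorem orbitOK_eq : orbitOK = true := by decide +kernel

end Cfsg.Agent.J4V.Invol.Checks
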