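import Cfsg.Agent.Lib.J4V.Split
import Cfsg.Agent.Lib.J4V.Classify
import Cfsg.Agent.Lib.J4V.Invol.Checks

/-!
# Janko four type: a model of the normaliser of the subgroup of order `2 ^ 11`

* `Ident`: the subgroup as the even cocode and the quotient of its normaliser as M24;
* `others_eq`: the 276 elements not conjugate to `z` are the pairs;
* `exists_model`: the identification may be chosen with `z` the standard sextet, and a complement is fixed.
-/

set_option autoImplicit false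
set_option maxRecDepth 20000
set_option linter.style.haveILetI false
set_option linter.unusedSectionVars false

namespace Cfsg.Agent.J4V.Invol

open Subgroup
open Cfsg Cfsg.Agent.Golay.Basic Cfsg.Agent.Golay.Cert Cfsg.Agent.Golay.TabList
open Cfsg.Agent.Golay.M24
open Cfsg.Agent.J4Local Cfsg.Agent.J4Eleven
open Cfsg.Agent.J4V.Split (NV VN)
open Cfsg.Agent.M24CocodeSplit.Collect (bitz bitz_xor V actX)
open Cfsg.Agent.M24CocodeSplit.Split (Word vec repWord repWord_add isEven_repWord isEven_add isEven_comp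
  coord coord_congr add_self₂ perm_congr pair_congr proj mw)
open Cfsg.Agent.M24CocodeSplit.Checks (imgChk)
open Checks

universe u

variable {G : Type u} [Group G] [Finite G] {z : G} {P : Subgroup G}

/-- The subgroup as the even cocode, the quotient of its normaliser as M24. -/
structure Ident (X : Chart z P) where
  φ : ↥(NV X.std) ⧸ VN X.std ≃* ↥M24
  ε : Word → ↥(NV X.std)
  hadd : ∀ v w : Word, ∑ p, v p = 0 → ∑ p, w p = 0 → ε (v + w) = ε v * ε w
  hmem : ∀ w : Word, ∑ p, w p = 0 → ε w ∈ VN X.std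
  hsurj : ∀ n ∈ VN X.std, ∃ w : Word, ∑ p, w p = 0 ∧ ε w = n
  hcode : ∀ w ∈ golayCode, ε w = 1
  hconj : ∀ (g : ↥(NV X.std)) (w : Word), ∑ p, w p = 0 → g * ε w * g⁻¹ =
    ε (fun p => w ((((φ (QuotientGroup.mk g) : ↥M24) : Equiv.Perm GolayPt))⁻¹ p))

theorem vec_xor (a b : ℕ) : vec (a ^^^ b) = vec a + vec b := funext fun i => bitz_xor a b i

theorem vec_zero : vec 0 = 0 := funext fun i => Cfsg.Agent.M24CocodeSplit.Collect.bitz_zero i

theorem vec_inj {a b : ℕ} (ha : a < 2048) (hb : b < 2048) (h : vec a = vec b) : a = b := by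
  refine Nat.eq_of_testBit_eq fun i => ?_
  by_cases hi : i < 11
  · have := congrFun h ⟨i, hi⟩
    simp only [vec, bitz] at this
    cases e1 : a.testBit i <;> cases e2 : b.testBit i <;> simp_all
  · have hp : (2 : ℕ) ^ 11 ≤ 2 ^ i := Nat.pow_le_pow_right (by norm_num) (by omega)
    rw [Nat.testBit_lt_two_pow (by omega), Nat.testBit_lt_two_pow (by omega)]

theorem vec_surj (x : V) : ∃ a < 2048, vec a = x := by
  have hb : Function.Bijective (fun a : Fin 2048 => vec a.1) := by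
    rw [Fintype.bijective_iff_injective_and_card]
    exact ⟨fun a b h => Fin.ext (vec_inj a.2 b.2 h), by simp⟩
  obtain ⟨a, ha⟩ := hb.2 x
  exact ⟨a.1, a.2, ha⟩

theorem enc_lt : ∀ (L : List ℕ), (∀ y ∈ L, y < 2048) → ∀ a, enc L a < 2048
  | [], _, a => by simp [enc]
  | b :: bs, h, a => by
    have h2 := enc_lt bs (fun y hy => h y (List.mem_cons_of_mem _ hy)) (a / 2)
    rw [enc]
    refine Nat.xor_lt_two_pow (n := 11) ?_ h2
    rcases Nat.mod_two_eq_zero_or_one a with e | e <;> rw [e]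
    · simp
    · simpa using h b (List.mem_cons_self)

theorem vec_enc (gi : List ℕ) (hlen : gi.length = 11) (x : ℕ) : vec (enc gi x) = actX gi (vec x) := by
  funext i
  show bitz (enc gi x) i.1 = _
  rw [Cfsg.Agent.M24CocodeSplit.Split.bitz_enc, hlen, Finset.sum_range]
  rfl

theorem vx_symm (a b : ℕ) : vx a b = vx b a := by rw [vx, vx, Nat.xor_comm]

theorem mem_duads {a b : ℕ} (ha : a < 24) (hb : b < 24) (hne : a ≠ b) : vx a b ∈ duads := by
  rcases Nat.lt_or_gt_of_ne hne with h | h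
  · rw [vx_symm]
    exact List.mem_flatMap.2 ⟨b, List.mem_range.2 hb, List.mem_map.2 ⟨a, List.mem_range.2 h, rfl⟩⟩
  · exact List.mem_flatMap.2 ⟨a, List.mem_range.2 ha, List.mem_map.2 ⟨b, List.mem_range.2 h, rfl⟩⟩

theorem duads_eq {x : ℕ} (hx : x ∈ duads) : ∃ a < 24, ∃ b < a, x = vx a b := by
  obtain ⟨a, ha, h⟩ := List.mem_flatMap.1 hx
  obtain ⟨b, hb, rfl⟩ := List.mem_map.1 h
  exact ⟨a, List.mem_range.1 ha, b, List.mem_range.1 hb, rfl⟩

theorem duads_facts : duads.length = 276 ∧ duads.Nodup ∧ 0 ∉ duads ∧ Data.sigma ∉ duads ∧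
    Data.sigma < 2048 ∧ Data.sigma ≠ 0 ∧ ∀ x ∈ duads, x < 2048 := by
  have h := duadOK_eq
  simp only [duadOK, Bool.and_eq_true, decide_eq_true_eq, List.all_eq_true, Nat.blt_eq,
    Bool.not_eq_true'] at h
  obtain ⟨⟨⟨⟨⟨⟨h1, h2⟩, h3⟩, h4⟩, h5⟩, h6⟩, h7⟩ := h
  refine ⟨Nat.eq_of_beq_eq_true h1, h2, by simpa using h3, by simpa using h4, h5,
    fun e => ?_, h7⟩
  rw [e] at h6
  exact Bool.noConfusion h6

namespace Ident

variable {X : Chart z P} (I : Ident X)

/-- The projection onto M24. -/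
noncomputable abbrev pr : ↥(NV X.std) →* ↥M24 := proj (VN X.std) I.φ

/-- The element of a vector. -/
noncomputable def iv (x : ℕ) : G := (I.ε (repWord (vec x)) : G)

theorem congr {v w : Word} (hv : ∑ p, v p = 0) (hw : ∑ p, w p = 0) (hvw : v + w ∈ golayCode) :
    I.ε v = I.ε w := by
  have h := I.hadd (v + w) w (isEven_add hv hw) hw
  rwa [add_assoc, add_self₂, add_zero, I.hcode _ hvw, one_mul] at h

theorem iv_xor (a b : ℕ) : I.iv (a ^^^ b) = I.iv a * I.iv b := by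
  rw [iv, vec_xor, repWord_add, I.hadd _ _ (isEven_repWord _) (isEven_repWord _)]
  rfl

theorem iv_zero : I.iv 0 = 1 := by
  have h := I.iv_xor 0 0
  rw [Nat.xor_self] at h
  exact mul_eq_left.1 h.symm

theorem iv_mem (a : ℕ) : I.iv a ∈ X.std := I.hmem _ (isEven_repWord _)

theorem iv_mem_NV (a : ℕ) : I.iv a ∈ NV X.std := (I.ε _).2

theorem iv_sq (a : ℕ) : I.iv a * I.iv a = 1 := by rw [← iv_xor, Nat.xor_self, iv_zero]

theorem iv_comm (a b : ℕ) : I.iv a * I.iv b = I.iv b * I.iv a := by rw [← iv_xor, ← iv_xor, Nat.xor_comm]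

theorem iv_inv (a : ℕ) : (I.iv a)⁻¹ = I.iv a := inv_eq_of_mul_eq_one_right (I.iv_sq a)

theorem exists_iv {a : G} (ha : a ∈ X.std) : ∃ x < 2048, I.iv x = a := by
  obtain ⟨w, hw, e⟩ := I.hsurj ⟨a, le_normalizer ha⟩ ha
  obtain ⟨x, hx, ex⟩ := vec_surj (coord w)
  refine ⟨x, hx, ?_⟩
  rw [iv, ex, ← I.congr hw (isEven_repWord _) (coord_congr hw), e]

theorem iv_inj {a b : ℕ} (ha : a < 2048) (hb : b < 2048) (h : I.iv a = I.iv b) : a = b := by
  have hbij : Function.Bijective (fun a : Fin 2048 => (⟨I.iv a.1, I.iv_mem a.1⟩ : X.std)) := by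
    rw [Nat.bijective_iff_surjective_and_card]
    refine ⟨fun n => ?_, ?_⟩
    · obtain ⟨x, hx, e⟩ := I.exists_iv n.2
      exact ⟨⟨x, hx⟩, Subtype.ext e⟩
    · rw [Nat.card_fin, X.std_eleven.card]; norm_num
  exact congrArg Fin.val (hbij.1 (a₁ := ⟨a, ha⟩) (a₂ := ⟨b, hb⟩) (Subtype.ext h))

/-- An element of the normaliser acting by a table. -/
def Tab (t : ℕ) (g : G) : Prop :=
  ∃ h : g ∈ NV X.std, IsTab t ((I.pr ⟨g, h⟩ : ↥M24) : Equiv.Perm GolayPt)

theorem Tab.mul {I : Ident X} {s t : ℕ} {g k : G} (hg : I.Tab s g) (hk : I.Tab t k) :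
    I.Tab (mulTab s t) (g * k) := by
  obtain ⟨hg, hs⟩ := hg
  obtain ⟨hk, ht⟩ := hk
  refine ⟨mul_mem hg hk, ?_⟩
  rw [show (⟨g * k, mul_mem hg hk⟩ : ↥(NV X.std)) = ⟨g, hg⟩ * ⟨k, hk⟩ from rfl, map_mul]
  exact isTab_mul hs ht

theorem tab_one : I.Tab idTab 1 := by
  refine ⟨one_mem _, ?_⟩
  rw [show (⟨1, one_mem _⟩ : ↥(NV X.std)) = 1 from rfl, map_one]
  exact isTab_one

theorem tab_of_mem_std {a : G} (ha : a ∈ X.std) : I.Tab idTab a := by
  refine ⟨le_normalizer ha, ?_⟩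
  rw [(Cfsg.Agent.M24CocodeSplit.Split.proj_eq_one (VN X.std) I.φ).2 ha]
  exact isTab_one

theorem conj_iv {t : ℕ} {gi : List ℕ} (hc : imgChk t gi = true) {g : G} (hg : I.Tab t g) (x : ℕ) :
    g * I.iv x * g⁻¹ = I.iv (enc gi x) := by
  obtain ⟨hg, ht⟩ := hg
  have hlen : gi.length = 11 := by
    simp only [imgChk, Bool.and_eq_true] at hc
    exact Nat.eq_of_beq_eq_true hc.1.2
  have h := (I.hconj ⟨g, hg⟩ _ (isEven_repWord (vec x))).trans (I.congr
    (isEven_comp (isEven_repWord (vec x)) _) (isEven_repWord _) (perm_congr hc ht (vec x)))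
  rw [← vec_enc gi hlen] at h
  exact congrArg Subtype.val h

theorem iv_pair {a b : ℕ} (ha : a < 24) (hb : b < 24) :
    I.iv (vx a b) = (I.ε (word {pt a} + word {pt b}) : G) := by
  have hev : ∀ p q : GolayPt, ∑ r, (word {p} + word {q}) r = 0 := fun p q => by
    simp only [Pi.add_apply, Finset.sum_add_distrib]
    simp [word]
    decide
  refine congrArg Subtype.val (I.congr (isEven_repWord _) (hev _ _) ?_)
  have h := Submodule.add_mem _ (pair_congr (pt a)) (pair_congr (pt b))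
  rw [ix_pt ha, ix_pt hb] at h
  rw [vx, vec_xor, repWord_add]
  convert h using 1
  funext r
  have : ∀ w x y u v : ZMod 2, u + v + (w + x) = (w + y + u) + (x + y + v) := by decide
  exact this _ _ _ _ _

/-- The images of the points under an element of the normaliser. -/
noncomputable def im (g : ↥(NV X.std)) (i : ℕ) : ℕ := ix (((I.pr g : ↥M24) : Equiv.Perm GolayPt) (pt i))

theorem conj_pair {g : G} (hg : g ∈ NV X.std) {a b : ℕ} (ha : a < 24) (hb : b < 24) :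
    g * I.iv (vx a b) * g⁻¹ = I.iv (vx (I.im ⟨g, hg⟩ a) (I.im ⟨g, hg⟩ b)) := by
  rw [I.iv_pair ha hb, im, im, I.iv_pair (ix_lt _) (ix_lt _)]
  have h := I.hconj ⟨g, hg⟩ (word {pt a} + word {pt b}) (by
    simp only [Pi.add_apply, Finset.sum_add_distrib]
    simp [word]
    decide)
  refine (congrArg Subtype.val h).trans (congrArg (fun w => (I.ε w : G)) ?_)
  funext p
  simp only [im, pt_ix, Pi.add_apply, word, Finset.mem_singleton, Equiv.Perm.inv_eq_iff_eq,
    eq_comm (a := p)]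
  rfl

/-- The pairs. -/
def duadSet : Set G := {v | ∃ x ∈ duads, I.iv x = v}

theorem duadSet_ncard : I.duadSet.ncard = 276 := by
  classical
  have e : I.duadSet = I.iv '' (↑duads.toFinset : Set ℕ) := by
    ext v; simp [duadSet]
  rw [e, Set.ncard_image_of_injOn, Set.ncard_coe_finset, List.toFinset_card_of_nodup duads_facts.2.1,
    duads_facts.1]
  intro a ha b hb h
  exact I.iv_inj (duads_facts.2.2.2.2.2.2 a (by simpa using ha))
    (duads_facts.2.2.2.2.2.2 b (by simpa using hb)) h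

theorem duadSet_conj {g v : G} (hg : g ∈ NV X.std) (hv : v ∈ I.duadSet) : g * v * g⁻¹ ∈ I.duadSet := by
  obtain ⟨x, hx, rfl⟩ := hv
  obtain ⟨a, ha, b, hb, rfl⟩ := duads_eq hx
  refine ⟨_, mem_duads (ix_lt _) (ix_lt _) (fun e => ?_), (I.conj_pair hg ha (hb.trans ha)).symm⟩
  have h2 := congrArg ix (Equiv.injective _ (ix_injective e))
  rw [ix_pt ha, ix_pt (hb.trans ha)] at h2
  omega

theorem duadSet_sub {v : G} (hv : v ∈ I.duadSet) : v ∈ X.std ∧ v ≠ 1 := by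
  obtain ⟨x, hx, rfl⟩ := hv
  refine ⟨I.iv_mem x, fun e => ?_⟩
  have := I.iv_inj (duads_facts.2.2.2.2.2.2 x hx) (by norm_num) (e.trans I.iv_zero.symm)
  exact duads_facts.2.2.1 (this ▸ hx)

variable [IsSimpleGroup G] (hG : ¬ IsMulCommutative G)

include hG

theorem others_eq : {v | v ∈ X.std ∧ v ≠ 1 ∧ ¬ IsConj z v} = I.duadSet := by
  refine (Set.eq_of_subset_of_ncard_le (fun v hv => ?_) ?_).symm
  · refine ⟨(I.duadSet_sub hv).1, (I.duadSet_sub hv).2, fun hz => ?_⟩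
    have hsub : {w | w ∈ X.std ∧ IsConj z w} ⊆ I.duadSet := by
      rw [← X.zt_orbit hG]
      rintro _ ⟨n, hn, rfl⟩
      have hm : v ∈ {w | w ∈ X.std ∧ IsConj z w} := ⟨(I.duadSet_sub hv).1, hz⟩
      rw [← X.zt_orbit hG] at hm
      obtain ⟨m, hm, e⟩ := hm
      have := I.duadSet_conj (mul_mem hn (inv_mem hm)) hv
      rwa [← e, show n * m⁻¹ * (m * z * m⁻¹) * (n * m⁻¹)⁻¹ = n * z * n⁻¹ by group] at this
    have h := Set.ncard_le_ncard hsub
    rw [(X.params hG).2.1, I.duadSet_ncard] at h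
    omega
  · rw [X.others_ncard hG, I.duadSet_ncard]

theorem zt_sigma : IsConj z (I.iv Data.sigma) := by
  by_contra hc
  have h1 : I.iv Data.sigma ≠ 1 := fun e =>
    duads_facts.2.2.2.2.2.1 (I.iv_inj duads_facts.2.2.2.2.1 (by norm_num) (e.trans I.iv_zero.symm))
  have hm : I.iv Data.sigma ∈ {v | v ∈ X.std ∧ v ≠ 1 ∧ ¬ IsConj z v} := ⟨I.iv_mem _, h1, hc⟩
  rw [I.others_eq hG] at hm
  obtain ⟨x, hx, e⟩ := hm
  exact duads_facts.2.2.2.1 (I.iv_inj (duads_facts.2.2.2.2.2.2 x hx) duads_facts.2.2.2.2.1 e ▸ hx)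

/-- The identification followed by conjugation. -/
noncomputable def twist (n : ↥(NV X.std)) : Ident X where
  φ := (MulAut.conj (QuotientGroup.mk n : ↥(NV X.std) ⧸ VN X.std)).trans I.φ
  ε w := n⁻¹ * I.ε w * n
  hadd v w hv hw := by rw [I.hadd v w hv hw]; group
  hmem w hw := by
    have h : n⁻¹ * I.ε w * n⁻¹⁻¹ ∈ VN X.std := Subgroup.Normal.conj_mem inferInstance _ (I.hmem w hw) _
    rwa [inv_inv] at h
  hsurj m hm := by
    obtain ⟨w, hw, e⟩ := I.hsurj (n * m * n⁻¹) (Subgroup.Normal.conj_mem inferInstance _ hm _)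
    exact ⟨w, hw, by rw [e]; group⟩
  hcode w hw := by rw [I.hcode w hw]; group
  hconj g w hw := by
    have h := I.hconj (n * g * n⁻¹) w hw
    have e : g * (n⁻¹ * I.ε w * n) * g⁻¹ = n⁻¹ * (n * g * n⁻¹ * I.ε w * (n * g * n⁻¹)⁻¹) * n := by group
    rw [e, h]
    rfl

include I in
theorem exists_twist : ∃ J : Ident X, J.iv Data.sigma = z := by
  have hm : I.iv Data.sigma ∈ {v | v ∈ X.std ∧ IsConj z v} := ⟨I.iv_mem _, I.zt_sigma hG⟩
  rw [← X.zt_orbit hG] at hm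
  obtain ⟨n, hn, e⟩ := hm
  refine ⟨I.twist ⟨n, hn⟩, ?_⟩
  show n⁻¹ * I.iv Data.sigma * n = z
  rw [← e]; group

end Ident

/-- A normalised identification with a complement. -/
structure Model (X : Chart z P) extends Ident X where
  hz : toIdent.iv Data.sigma = z
  K : Subgroup G
  hK : K ≤ NV X.std
  inj : ∀ k ∈ K, k ∈ X.std → k = 1
  surj : ∀ m : ↥M24, ∃ k, ∃ h : k ∈ K, toIdent.pr ⟨k, hK h⟩ = m

namespace Model

variable {X : Chart z P} (M : Model X)

theorem exists_K {t : ℕ} (ht : tabOK t = true) : ∃ k ∈ M.K, M.Tab t k := by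
  obtain ⟨k, h, e⟩ := M.surj ⟨tabPerm t, tabPerm_mem ht⟩
  exact ⟨k, h, M.hK h, by rw [e]; exact isTab_tabPerm ht⟩

theorem K_eq {t : ℕ} {k l : G} (hk : k ∈ M.K) (hl : l ∈ M.K) (h1 : M.Tab t k) (h2 : M.Tab t l) : k = l := by
  obtain ⟨a, ha⟩ := h1
  obtain ⟨b, hb⟩ := h2
  have e : M.pr ⟨k, a⟩ = M.pr ⟨l, b⟩ := Subtype.ext (ha.unique hb)
  have h : (⟨k, a⟩ * ⟨l, b⟩⁻¹ : ↥(NV X.std)) ∈ VN X.std := by
    rw [← Cfsg.Agent.M24CocodeSplit.Split.proj_eq_one (VN X.std) M.φ, map_mul, map_inv, e, mul_inv_cancel]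
  exact mul_inv_eq_one.1 (M.inj _ (mul_mem hk (inv_mem hl)) h)

theorem decomp {n : G} (hn : n ∈ NV X.std) : ∃ a < 2048, ∃ k ∈ M.K, n = M.iv a * k := by
  obtain ⟨k, hk, e⟩ := M.surj (M.pr ⟨n, hn⟩)
  have h : (⟨n, hn⟩ * ⟨k, M.hK hk⟩⁻¹ : ↥(NV X.std)) ∈ VN X.std := by
    rw [← Cfsg.Agent.M24CocodeSplit.Split.proj_eq_one (VN X.std) M.φ, map_mul, map_inv, e, mul_inv_cancel]
  obtain ⟨a, ha, e'⟩ := M.exists_iv (a := n * k⁻¹) h
  exact ⟨a, ha, k, hk, by rw [e', inv_mul_cancel_right]⟩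

theorem decomp_unique {a b : ℕ} (ha : a < 2048) (hb : b < 2048) {k l : G} (hk : k ∈ M.K) (hl : l ∈ M.K)
    (e : M.iv a * k = M.iv b * l) : a = b ∧ k = l := by
  have h : k * l⁻¹ ∈ X.std := by
    rw [show k * l⁻¹ = (M.iv a)⁻¹ * (M.iv a * k) * l⁻¹ by group, e, mul_assoc, mul_inv_cancel_right]
    exact mul_mem (inv_mem (M.iv_mem a)) (M.iv_mem b)
  have h1 := mul_inv_eq_one.1 (M.inj _ (mul_mem hk (inv_mem hl)) h)
  subst h1
  exact ⟨M.iv_inj ha hb (mul_right_cancel e), rfl⟩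

end Model

variable {X : Chart z P}

theorem exists_model [IsSimpleGroup G] (hG : ¬ IsMulCommutative G) (I : Ident X) : Nonempty (Model X) := by
  obtain ⟨J, hJ⟩ := I.exists_twist hG
  obtain ⟨K, hK, hinf, -, ⟨e⟩⟩ :=
    J4V.Split.exists_complement X J.φ J.ε J.hadd J.hmem J.hsurj J.hcode J.hconj
  have hinj : ∀ k ∈ K, k ∈ X.std → k = 1 := fun k hk hk' => by
    have : k ∈ K ⊓ X.std := ⟨hk, hk'⟩
    rwa [hinf, Subgroup.mem_bot] at this
  refine ⟨{ toIdent := J, hz := hJ, K := K, hK := hK, inj := hinj, surj := fun m => ?_ }⟩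
  let f : ↥K → ↥M24 := fun k => J.pr ⟨k, hK k.2⟩
  have hb : Function.Bijective f := by
    rw [Nat.bijective_iff_injective_and_card]
    refine ⟨fun a b h => ?_, Nat.card_congr e.toEquiv⟩
    have h' : (⟨a, hK a.2⟩ * ⟨b, hK b.2⟩⁻¹ : ↥(NV X.std)) ∈ VN X.std := by
      rw [← Cfsg.Agent.M24CocodeSplit.Split.proj_eq_one (VN X.std) J.φ, map_mul, map_inv, mul_inv_eq_one]
      exact h
    exact Subtype.ext (mul_inv_eq_one.1 (hinj _ (mul_mem a.2 (inv_mem b.2)) h'))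
  obtain ⟨k, hk⟩ := hb.2 m
  exact ⟨k, k.2, hk⟩

end Cfsg.Agent.J4V.Invol
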