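import Cfsg.Agent.Lib.J4V.Invol.Model
import Cfsg.Agent.Lib.Golay.M24Involution

/-!
# Janko four type: `E` in the model of the normaliser of the subgroup of order `2 ^ 11`

The elements of `E` are the products of a listed vector and of an element of the complement fixing the
tetrads of the sextet.
-/

set_option autoImplicit false
set_option maxRecDepth 20000
set_option linter.style.haveILetI false
set_option linter.unusedSectionVars false

namespace Cfsg.Agent.J4V.Invol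

open Subgroup
open Cfsg Cfsg.Agent.Golay.Basic Cfsg.Agent.Golay.Cert Cfsg.Agent.Golay.TabList
open Cfsg.Agent.Golay.M24 Cfsg.Agent.Golay.Design
open Cfsg.Agent.J4Local Cfsg.Agent.J4Eleven
open Cfsg.Agent.J4V.Split (NV VN)
open Cfsg.Agent.M24CocodeSplit.Checks (imgChk)
open Checks

universe u

theorem enc_closed (p : ℕ → Prop) (h0 : p 0) (hadd : ∀ a b, p a → p b → p (a ^^^ b)) :
    ∀ (L : List ℕ), (∀ y ∈ L, p y) → ∀ a, p (enc L a)
  | [], _, _ => by simpa [enc] using h0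
  | b :: bs, h, a => by
    rw [enc]
    refine hadd _ _ ?_ (enc_closed p h0 hadd bs (fun y hy => h y (List.mem_cons_of_mem _ hy)) _)
    rcases Nat.mod_two_eq_zero_or_one a with e | e <;> rw [e]
    · simpa using h0
    · simpa using h b List.mem_cons_self

theorem pow_two_enc : ∀ x < 2048, enc ((List.range 11).map fun j => 2 ^ j) x = x := by decide +kernel

theorem quadOK_spec {a b c d : ℕ} (h : quadOK a b c d = true) :
    a < 24 ∧ b < 24 ∧ c < 24 ∧ d < 24 ∧ a ≠ b ∧ c ≠ d ∧ vx a b ^^^ Data.sigma = vx c d := by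
  simp only [quadOK, Bool.and_eq_true, Bool.not_eq_true', Nat.blt_eq] at h
  obtain ⟨⟨⟨⟨⟨⟨ha, hb⟩, hc⟩, hd⟩, h1⟩, h2⟩, h3⟩ := h
  exact ⟨ha, hb, hc, hd, fun e => by simp [e] at h1, fun e => by simp [e] at h2, Nat.eq_of_beq_eq_true h3⟩

theorem pair_inj {a b c d : ℕ} (ha : a < 24) (hb : b < 24) (hc : c < 24) (hd : d < 24)
    (hab : a ≠ b) (hcd : c ≠ d) (h : vx a b = vx c d) : (a = c ∧ b = d) ∨ (a = d ∧ b = c) := by
  classical
  let s : Finset (ℕ × ℕ) := (Finset.range 24 ×ˢ Finset.range 24).filter fun p => p.2 < p.1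
  have hinj : Set.InjOn (fun p => vx p.1 p.2) (s : Set (ℕ × ℕ)) := by
    refine Finset.card_image_iff.1 (le_antisymm Finset.card_image_le ?_)
    have e : s.image (fun p => vx p.1 p.2) = duads.toFinset := by
      ext x
      simp only [Finset.mem_image, List.mem_toFinset, s, Finset.mem_filter, Finset.mem_product, Finset.mem_range]
      constructor
      · rintro ⟨p, ⟨⟨h1, h2⟩, h3⟩, rfl⟩
        exact mem_duads h1 h2 (by omega)
      · intro hx
        obtain ⟨a, ha, b, hb, rfl⟩ := duads_eq hx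
        exact ⟨(a, b), ⟨⟨ha, hb.trans ha⟩, hb⟩, rfl⟩
    rw [e, List.toFinset_card_of_nodup duads_facts.2.1, duads_facts.1]
    exact le_of_eq (show s.card = 276 by decide +kernel)
  have hmem : ∀ {p : ℕ × ℕ}, p.1 < 24 → p.2 < p.1 → p ∈ (s : Set (ℕ × ℕ)) := fun {p} h1 h2 => by
    simp [s, h1, h2, h2.trans h1]
  rcases Nat.lt_or_gt_of_ne hab with h1 | h1 <;> rcases Nat.lt_or_gt_of_ne hcd with h2 | h2
  · have e := hinj (hmem (p := (b, a)) hb h1) (hmem (p := (d, c)) hd h2) (by simpa [vx_symm b a, vx_symm d c] using h)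
    simp only [Prod.mk.injEq] at e; omega
  · have e := hinj (hmem (p := (b, a)) hb h1) (hmem (p := (c, d)) hc h2) (by simpa [vx_symm b a] using h)
    simp only [Prod.mk.injEq] at e; omega
  · have e := hinj (hmem (p := (a, b)) ha h1) (hmem (p := (d, c)) hd h2) (by simpa [vx_symm d c] using h)
    simp only [Prod.mk.injEq] at e; omega
  · have e := hinj (hmem (p := (a, b)) ha h1) (hmem (p := (c, d)) hc h2) h
    simp only [Prod.mk.injEq] at e; omega

/-- Fixing every tetrad as an element of the four group. -/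
def Fixes (f : ℕ → ℕ) : Prop := ∀ q ∈ Data.tet, v4 f q = true

theorem v4_cases {f : ℕ → ℕ} {a b c d : ℕ} (h : v4 f (a, b, c, d) = true) :
    (f a = a ∧ f b = b ∧ f c = c ∧ f d = d) ∨ (f a = b ∧ f b = a ∧ f c = d ∧ f d = c) ∨
    (f a = c ∧ f b = d ∧ f c = a ∧ f d = b) ∨ (f a = d ∧ f b = c ∧ f c = b ∧ f d = a) := by
  simpa [v4, or_assoc, and_assoc] using h

theorem v4_of_cases {f : ℕ → ℕ} {a b c d : ℕ}
    (h : (f a = a ∧ f b = b ∧ f c = c ∧ f d = d) ∨ (f a = b ∧ f b = a ∧ f c = d ∧ f d = c) ∨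
      (f a = c ∧ f b = d ∧ f c = a ∧ f d = b) ∨ (f a = d ∧ f b = c ∧ f c = b ∧ f d = a)) :
    v4 f (a, b, c, d) = true := by
  simpa [v4, or_assoc, and_assoc] using h

theorem tet_spec {a b c d : ℕ} (h : (a, b, c, d) ∈ Data.tet) :
    quadOK a b c d = true ∧ quadOK a c b d = true ∧ quadOK a d b c = true ∧
      inW (vx a b) = true ∧ inW (vx a c) = true ∧ inW (vx a d) = true := by
  have ht := tetOK_eq
  simp only [tetOK, Bool.and_eq_true, List.all_eq_true] at ht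
  obtain ⟨⟨hq, -⟩, -⟩ := ht
  obtain ⟨⟨⟨⟨⟨h1, h2⟩, h3⟩, h4⟩, h5⟩, h6⟩ := hq _ h
  exact ⟨h1, h2, h3, h4, h5, h6⟩

theorem tet_cover {i : ℕ} (hi : i < 24) :
    ∃ a b c d, (a, b, c, d) ∈ Data.tet ∧ (i = a ∨ i = b ∨ i = c ∨ i = d) := by
  have ht := tetOK_eq
  simp only [tetOK, Bool.and_eq_true, List.all_eq_true, List.mem_range, List.any_eq_true] at ht
  obtain ⟨⟨a, b, c, d⟩, hq, h⟩ := ht.2 i hi
  exact ⟨a, b, c, d, hq, by simpa [or_assoc] using h⟩

/-- The images of the points under a permutation. -/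
def pim (σ : Equiv.Perm GolayPt) (i : ℕ) : ℕ := ix (σ (pt i))

theorem pim_mul (σ τ : Equiv.Perm GolayPt) (i : ℕ) : pim (σ * τ) i = pim σ (pim τ i) := by
  simp [pim, pt_ix]

theorem pim_inj (σ : Equiv.Perm GolayPt) {i j : ℕ} (hi : i < 24) (hj : j < 24) (h : pim σ i = pim σ j) :
    i = j := by
  have := congrArg ix (σ.injective (ix_injective h))
  rwa [ix_pt hi, ix_pt hj] at this

theorem fixes_sq {σ : Equiv.Perm GolayPt} (h : Fixes (pim σ)) : σ * σ = 1 := by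
  ext p : 1
  apply ix_injective
  obtain ⟨a, b, c, d, hq, hi⟩ := tet_cover (ix_lt p)
  have e : pim (σ * σ) (ix p) = ix p := by
    rw [pim_mul]
    rcases v4_cases (h _ hq) with ⟨e1, e2, e3, e4⟩ | ⟨e1, e2, e3, e4⟩ | ⟨e1, e2, e3, e4⟩ | ⟨e1, e2, e3, e4⟩ <;>
      rcases hi with i1 | i1 | i1 | i1 <;> rw [i1] <;> simp only [e1, e2, e3, e4]
  simpa [pim, pt_ix] using e

theorem fixes_mul {σ τ : Equiv.Perm GolayPt} (hσ : Fixes (pim σ)) (hτ : Fixes (pim τ)) :
    Fixes (pim (σ * τ)) := by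
  rintro ⟨a, b, c, d⟩ hq
  apply v4_of_cases
  simp only [pim_mul]
  rcases v4_cases (hσ _ hq) with ⟨e1, e2, e3, e4⟩ | ⟨e1, e2, e3, e4⟩ | ⟨e1, e2, e3, e4⟩ | ⟨e1, e2, e3, e4⟩ <;>
    rcases v4_cases (hτ _ hq) with ⟨f1, f2, f3, f4⟩ | ⟨f1, f2, f3, f4⟩ | ⟨f1, f2, f3, f4⟩ | ⟨f1, f2, f3, f4⟩ <;>
    simp [f1, f2, f3, f4, e1, e2, e3, e4]

/-- The first three tetrads. -/
def three : List (ℕ × ℕ × ℕ × ℕ) := Data.tet.take 3

/-- Their points. -/
def threePts : List GolayPt := three.flatMap fun q => [pt q.1, pt q.2.1, pt q.2.2.1, pt q.2.2.2]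

theorem threePts_nodup : threePts.Nodup ∧ threePts.length = 12 := by decide +kernel

theorem fixes_eq_one {σ : Equiv.Perm GolayPt} (hM : σ ∈ M24) (h : Fixes (pim σ))
    (hk : ∀ q ∈ three, pim σ q.1 = q.1) : σ = 1 := by
  by_contra hne
  have hfix : ∀ p ∈ threePts, σ p = p := by
    intro p hp
    obtain ⟨⟨a, b, c, d⟩, hq, hp⟩ := List.mem_flatMap.1 hp
    have hqt : (a, b, c, d) ∈ Data.tet := List.mem_of_mem_take hq
    obtain ⟨ha, hb, hc, hd, hab, hcd, -⟩ := quadOK_spec (tet_spec hqt).1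
    obtain ⟨-, -, -, -, hac, -, -⟩ := quadOK_spec (tet_spec hqt).2.1
    obtain ⟨-, -, -, -, had, -, -⟩ := quadOK_spec (tet_spec hqt).2.2.1
    have hk' : pim σ a = a := hk _ hq
    have hall : pim σ a = a ∧ pim σ b = b ∧ pim σ c = c ∧ pim σ d = d := by
      rcases v4_cases (h _ hqt) with e | e | e | e
      · exact e
      all_goals exact absurd (hk'.symm.trans e.1) (by assumption)
    simp only [List.mem_cons, List.not_mem_nil, or_false] at hp
    rcases hp with rfl | rfl | rfl | rfl <;> apply ix_injective <;> rw [ix_pt (by assumption)]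
    exacts [hall.1, hall.2.1, hall.2.2.1, hall.2.2.2]
  have h2 : orderOf (⟨σ, hM⟩ : ↥M24) = 2 := orderOf_eq_prime (by
      rw [pow_two]; exact Subtype.ext (fixes_sq h)) fun e => hne (congrArg Subtype.val e)
  rcases Cfsg.Agent.Golay.M24Involution.involution_cases h2 with ⟨o, ho, hoq⟩ | ⟨c, hc⟩
  · have hsub : threePts.toFinset ⊆ o := fun p hp => (hoq p).1 (hfix p (List.mem_toFinset.1 hp))
    have := Finset.card_le_card hsub
    rw [List.toFinset_card_of_nodup threePts_nodup.1, threePts_nodup.2, octad_card ho] at this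
    omega
  · obtain ⟨p, hp⟩ : ∃ p, p ∈ threePts := List.exists_mem_of_length_pos (by rw [threePts_nodup.2]; norm_num)
    have e := hfix p hp
    have e' : σ = (c : Equiv.Perm GolayPt) * Cfsg.Agent.Golay.M24Involution.freeInv * (c : Equiv.Perm GolayPt)⁻¹ :=
      congrArg Subtype.val hc
    rw [e', Equiv.Perm.mul_apply, Equiv.Perm.mul_apply, ← Equiv.Perm.eq_inv_iff_eq] at e
    exact Cfsg.Agent.Golay.M24Involution.freeInv_ne _ e

/-- The elements of M24 fixing every tetrad as elements of the four group. -/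
def fixSet : Set ↥M24 := {σ | Fixes (pim σ)}

theorem fixSet_ncard_le : fixSet.ncard ≤ 64 := by
  classical
  let B : ℕ → Finset ℕ := fun i => match Data.tet.getD i (0, 0, 0, 0) with | (a, b, c, d) => {a, b, c, d}
  let key : ↥M24 → ℕ × ℕ × ℕ := fun σ =>
    (pim σ (three.getD 0 (0, 0, 0, 0)).1, pim σ (three.getD 1 (0, 0, 0, 0)).1, pim σ (three.getD 2 (0, 0, 0, 0)).1)
  have hinj : Set.InjOn key fixSet := by
    intro σ hσ τ hτ e
    have h1 : Fixes (pim ((σ : Equiv.Perm GolayPt) * τ)) := fixes_mul hσ hτ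
    have hone := fixes_eq_one (M24.mul_mem σ.2 τ.2) h1 (fun q hq => by
      simp only [key, Prod.mk.injEq] at e
      have hq' : q = three.getD 0 (0, 0, 0, 0) ∨ q = three.getD 1 (0, 0, 0, 0) ∨
          q = three.getD 2 (0, 0, 0, 0) := by
        revert q; decide +kernel
      have hlt : q.1 < 24 := by
        obtain ⟨a, b, c, d⟩ := q
        exact (quadOK_spec (tet_spec (List.mem_of_mem_take hq)).1).1
      rw [pim_mul]
      have hk : pim σ q.1 = pim τ q.1 := by rcases hq' with rfl | rfl | rfl <;> [exact e.1; exact e.2.1; exact e.2.2]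
      rw [← hk, ← pim_mul, fixes_sq hσ]
      show ix (pt q.1) = q.1
      rw [ix_pt hlt])
    apply Subtype.ext
    have hσ2 := fixes_sq hσ
    calc (σ : Equiv.Perm GolayPt) = σ * σ * τ := by
          rw [mul_assoc, hone, mul_one]
      _ = τ := by rw [hσ2, one_mul]
  refine (Set.ncard_le_ncard_of_injOn (t := ↑(B 0 ×ˢ (B 1 ×ˢ B 2))) key ?_ hinj).trans ?_
  · intro σ hσ
    have hm : ∀ i < 3, pim σ (Data.tet.getD i (0, 0, 0, 0)).1 ∈ B i := by
      intro i hi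
      have hlen : i < Data.tet.length := lt_of_lt_of_le hi (by decide)
      have hq : Data.tet.getD i (0, 0, 0, 0) ∈ Data.tet := by
        rw [List.getD_eq_getElem _ _ hlen]; exact List.getElem_mem hlen
      simp only [B]
      generalize hqq : Data.tet.getD i (0, 0, 0, 0) = q at hq ⊢
      obtain ⟨a, b, c, d⟩ := q
      rcases v4_cases (hσ _ hq) with e | e | e | e <;> simp [e.1]
    simp only [Finset.coe_product, Set.mem_prod, Finset.mem_coe, key]
    exact ⟨hm 0 (by norm_num), hm 1 (by norm_num), hm 2 (by norm_num)⟩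
  · rw [Set.ncard_coe_finset]
    decide +kernel

theorem fix_facts {i : ℕ} (hi : i < 64) :
    imgChk (oT i) (oIm i) = true ∧ mulTab (oT i) (oT i) = idTab ∧ ∀ q ∈ Data.tet, v4 (tabAt (oT i)) q = true := by
  have h := fixOK_eq
  simp only [fixOK, Bool.and_eq_true, List.all_eq_true, List.mem_range] at h
  obtain ⟨⟨h1, h2⟩, h3⟩ := h.2 i hi
  exact ⟨h1, Nat.eq_of_beq_eq_true h2, h3⟩

theorem tabOK_oT {i : ℕ} (hi : i < 64) : tabOK (oT i) = true ∧ canon (oT i) = true := by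
  have h := (fix_facts hi).1
  simp only [imgChk, Bool.and_eq_true] at h
  exact h.1.1

theorem isTab_fixes {σ : Equiv.Perm GolayPt} {i : ℕ} (hi : i < 64) (h : IsTab (oT i) σ) : Fixes (pim σ) := by
  rintro ⟨a, b, c, d⟩ hq
  obtain ⟨ha, hb, hc, hd, -⟩ := quadOK_spec (tet_spec hq).1
  have h' := v4_cases ((fix_facts hi).2.2 _ hq)
  apply v4_of_cases
  simp only [pim, h _, ix_pt ha, ix_pt hb, ix_pt hc, ix_pt hd]
  exact h'

theorem oT_inj {i j : ℕ} (hi : i < 64) (hj : j < 64) (h : oT i = oT j) : i = j := by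
  have hf := fixOK_eq
  simp only [fixOK, Bool.and_eq_true, decide_eq_true_eq] at hf
  obtain ⟨⟨⟨⟨-, hlen⟩, hnd⟩, -⟩, -⟩ := hf
  have hlen' := Nat.eq_of_beq_eq_true hlen
  simp only [oT, List.getD_eq_getElem _ _ (show i < Data.oL.length by omega),
    List.getD_eq_getElem _ _ (show j < Data.oL.length by omega)] at h
  exact hnd.getElem_inj_iff.1 h

theorem fixSet_eq : fixSet = {σ : ↥M24 | ∃ i < 64, IsTab (oT i) (σ : Equiv.Perm GolayPt)} := by
  refine (Set.eq_of_subset_of_ncard_le (fun σ hσ => by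
    obtain ⟨i, hi, h⟩ := hσ
    exact isTab_fixes hi h) (fixSet_ncard_le.trans ?_)).symm
  let f : Fin 64 → ↥M24 := fun i => ⟨tabPerm (oT i.1), tabPerm_mem (tabOK_oT i.2).1⟩
  have hinj : Function.Injective f := fun i j e => Fin.ext (oT_inj i.2 j.2 (eq_of_isTab (tabOK_oT i.2).2
    (tabOK_oT j.2).2 (isTab_tabPerm (tabOK_oT i.2).1)
    (by rw [show tabPerm (oT i.1) = tabPerm (oT j.1) from congrArg Subtype.val e]; exact isTab_tabPerm (tabOK_oT j.2).1)))
  calc 64 = (Set.range f).ncard := by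
        rw [← Nat.card_coe_set_eq, Nat.card_congr (Equiv.ofInjective f hinj).symm, Nat.card_fin]
    _ ≤ _ := Set.ncard_le_ncard (by
        rintro _ ⟨i, rfl⟩
        exact ⟨i.1, i.2, isTab_tabPerm (tabOK_oT i.2).1⟩)

theorem wList_nodup : wList.Nodup ∧ wList.length = 128 ∧ (∀ w ∈ wList, w < 2048) := by
  have h := spanOK_eq
  simp only [spanOK, Bool.and_eq_true, decide_eq_true_eq, List.all_eq_true, Nat.blt_eq] at h
  exact ⟨h.1.1.1.2, by simp [wList], h.1.1.2⟩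

namespace Model

variable {G : Type u} [Group G] [Finite G] {z : G} {P : Subgroup G} {X : Chart z P} (M : Model X)
  [IsSimpleGroup G] (hG : ¬ IsMulCommutative G)

include hG

theorem mem_EE_of_two {y : G} (hy : y ∈ X.std) (h1 : y ≠ 1) (hn : ¬ IsConj z y) (hn' : ¬ IsConj z (y * z)) :
    y ∈ EE z := by
  obtain ⟨x, hx, c, hc, rfl⟩ := id hy
  by_cases hm : X.π ⟨c, X.LE_le_CC hc⟩ = 1
  · have h6 := (X.mem_ker_iff _).1 hm
    have hcz := X.mem_zpowers_of_six h6 (by rw [hc.2.2]; exact one_mem _)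
    exact mul_mem hx.1 (zpowers_le.2 X.z_mem_EE hcz)
  exfalso
  rw [← X.LE_preV_comm hc hx] at hn hn'
  rw [mul_assoc] at hn'
  obtain ⟨-, ha⟩ := X.on_line_of_not_zt hG hc rfl hm hx hn
  obtain ⟨-, hb⟩ := X.on_line_of_not_zt hG hc rfl hm (X.mul_z_mem_preW hx) hn'
  have h' := Chart.Hc.mul_z X ha
  rw [mul_assoc (X.zl _) z z, X.zz, mul_one, mul_assoc c x z] at h'
  obtain ⟨hnz, -⟩ := (X.params hG).2.2.2.2 _ hc.2.1 hm
  exact hnz ((Chart.Hc.zt X hb).2 ((Chart.Hc.zt X h').1 (X.zl_zt hG hc.2.1 hm)))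

theorem quad_EE {a b c d : ℕ} (h : quadOK a b c d = true) : M.iv (vx a b) ∈ EE z := by
  obtain ⟨ha, hb, hc, hd, hab, hcd, e⟩ := quadOK_spec h
  have key : ∀ {p q}, p < 24 → q < 24 → p ≠ q →
      M.iv (vx p q) ≠ 1 ∧ ¬ IsConj z (M.iv (vx p q)) := by
    intro p q hp hq hpq
    have hm : M.iv (vx p q) ∈ M.duadSet := ⟨_, mem_duads hp hq hpq, rfl⟩
    rw [← M.others_eq hG] at hm
    exact hm.2
  refine mem_EE_of_two hG (M.iv_mem _) (key ha hb hab).1 (key ha hb hab).2 ?_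
  have h2 := (key hc hd hcd).2
  rwa [← e, M.iv_xor, M.hz] at h2

theorem iv_EE {w : ℕ} (hw : inW w = true) : M.iv w ∈ EE z := by
  simp only [inW, List.contains_iff_mem, wList, List.mem_map] at hw
  obtain ⟨a, -, rfl⟩ := hw
  refine enc_closed (fun x => M.iv x ∈ EE z) (by rw [M.iv_zero]; exact one_mem _)
    (fun a b ha hb => by rw [M.iv_xor]; exact mul_mem ha hb) _ ?_ a
  intro y hy
  simp only [wGens, List.mem_map] at hy
  obtain ⟨q, hq, rfl⟩ := hy
  have h := spanOK_eq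
  simp only [spanOK, Bool.and_eq_true, List.all_eq_true] at h
  exact M.quad_EE hG (h.1.1.1.1 q hq)

theorem exists_w {a : G} (ha : a ∈ X.std) (hE : a ∈ EE z) : ∃ w ∈ wList, M.iv w = a := by
  classical
  obtain ⟨hnd, hlen, hlt⟩ := wList_nodup
  have hsub : M.iv '' (↑wList.toFinset : Set ℕ) ⊆ (preV X.L.J X.WV : Set G) := by
    rintro _ ⟨w, hw, rfl⟩
    exact X.std_inf_EE (M.iv_mem w) (M.iv_EE hG (by simpa [inW] using hw))
  have hc : (M.iv '' (↑wList.toFinset : Set ℕ)).ncard = 128 := by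
    rw [Set.ncard_image_of_injOn, Set.ncard_coe_finset, List.toFinset_card_of_nodup hnd, hlen]
    intro x hx y hy e
    exact M.iv_inj (hlt x (by simpa using hx)) (hlt y (by simpa using hy)) e
  have he := Set.eq_of_subset_of_ncard_le hsub (by
    rw [hc, ← Nat.card_coe_set_eq, SetLike.coe_sort_coe, card_preV, X.card_WV.1]; norm_num)
  have ha' : a ∈ M.iv '' (↑wList.toFinset : Set ℕ) := by
    rw [he]; exact X.std_inf_EE ha hE
  obtain ⟨w, hw, e⟩ := ha'
  exact ⟨w, by simpa using hw, e⟩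

omit hG in
theorem EE_le_NV {e : G} (he : e ∈ EE z) : e ∈ NV X.std :=
  M22Order.mem_normalizer_of_conj fun _ ha => X.EE_conj_std he ha

theorem EE_fixes {e : G} (he : e ∈ EE z) :
    Fixes (pim ((M.pr ⟨e, EE_le_NV (X := X) he⟩ : ↥M24) : Equiv.Perm GolayPt)) := by
  rintro ⟨a, b, c, d⟩ hq
  obtain ⟨q1, q2, q3, w1, w2, w3⟩ := tet_spec hq
  set f := pim ((M.pr ⟨e, EE_le_NV (X := X) he⟩ : ↥M24) : Equiv.Perm GolayPt) with hf
  have key : ∀ {p q r s}, quadOK p q r s = true → inW (vx p q) = true →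
      (f p = p ∧ f q = q) ∨ (f p = q ∧ f q = p) ∨ (f p = r ∧ f q = s) ∨ (f p = s ∧ f q = r) := by
    intro p q r s h hw
    obtain ⟨hp, hq, hr, hs, hpq, hrs, he'⟩ := quadOK_spec h
    have hne : f p ≠ f q := fun e' => hpq (pim_inj _ hp hq e')
    have h1 := M.conj_pair (g := e) (EE_le_NV he) hp hq
    rw [conj_eq X.L.J he (M.iv_EE hG hw)] at h1
    have hvv : vx (f p) (f q) = vx p q ∨ vx (f p) (f q) = vx p q ^^^ Data.sigma := by
      have hlt : vx (f p) (f q) < 2048 := duads_facts.2.2.2.2.2.2 _ (mem_duads (ix_lt _) (ix_lt _) hne)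
      have hlt' : vx p q < 2048 := duads_facts.2.2.2.2.2.2 _ (mem_duads hp hq hpq)
      have hv := ZMod.val_lt (cm e (M.iv (vx p q)))
      rcases (show (cm e (M.iv (vx p q))).val = 0 ∨ (cm e (M.iv (vx p q))).val = 1 by omega) with e0 | e0 <;>
        rw [e0] at h1
      · refine Or.inl (M.iv_inj hlt hlt' ?_)
        simpa [hf, pim, Ident.im] using h1.symm
      · refine Or.inr (M.iv_inj hlt (Nat.xor_lt_two_pow (n := 11) hlt' duads_facts.2.2.2.2.1) ?_)
        rw [M.iv_xor, M.hz]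
        simpa [hf, pim, Ident.im] using h1.symm
    rcases hvv with e' | e'
    · rcases pair_inj (ix_lt _) (ix_lt _) hp hq hne hpq e' with h' | h'
      exacts [Or.inl h', Or.inr (Or.inl h')]
    · rw [he'] at e'
      rcases pair_inj (ix_lt _) (ix_lt _) hr hs hne hrs e' with h' | h'
      exacts [Or.inr (Or.inr (Or.inl h')), Or.inr (Or.inr (Or.inr h'))]
  obtain ⟨ha, hb, hc, hd, hab, hcd, -⟩ := quadOK_spec q1
  obtain ⟨-, -, -, -, hac, hbd, -⟩ := quadOK_spec q2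
  obtain ⟨-, -, -, -, had, hbc, -⟩ := quadOK_spec q3
  apply v4_of_cases
  rcases key q1 w1 with ⟨x1, x2⟩ | ⟨x1, x2⟩ | ⟨x1, x2⟩ | ⟨x1, x2⟩ <;>
    rcases key q2 w2 with ⟨y1, y2⟩ | ⟨y1, y2⟩ | ⟨y1, y2⟩ | ⟨y1, y2⟩ <;>
    rcases key q3 w3 with ⟨u1, u2⟩ | ⟨u1, u2⟩ | ⟨u1, u2⟩ | ⟨u1, u2⟩ <;> omega

theorem exists_EE_tab {i : ℕ} (hi : i < 64) : ∃ e ∈ EE z, M.Tab (oT i) e := by
  classical
  let f : ↥(EE z) →* ↥M24 := M.pr.comp (Subgroup.inclusion fun e he => EE_le_NV (X := X) he)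
  have hsub : (f.range : Set ↥M24) ⊆ fixSet := by
    rintro _ ⟨e, rfl⟩
    exact M.EE_fixes hG e.2
  have hker : Nat.card f.ker ≤ 128 := by
    let g : f.ker → ↥(preV X.L.J X.WV) := fun e => ⟨(e.1 : G), X.std_inf_EE
      ((Cfsg.Agent.M24CocodeSplit.Split.proj_eq_one (VN X.std) M.φ).1 (MonoidHom.mem_ker.1 e.2)) e.1.2⟩
    refine (Nat.card_le_card_of_injective g fun a b h => ?_).trans (by rw [card_preV, X.card_WV.1]; norm_num)
    exact Subtype.ext (Subtype.ext (congrArg (fun x : ↥(preV X.L.J X.WV) => (x : G)) h))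
  have hcard := f.ker.card_mul_index
  rw [Subgroup.index_ker, X.L.J.cardE] at hcard
  have h64 : 64 ≤ Nat.card f.range := by
    have := Nat.mul_le_mul_right (Nat.card f.range) hker
    omega
  have heq : (f.range : Set ↥M24) = fixSet := Set.eq_of_subset_of_ncard_le hsub (fixSet_ncard_le.trans (by
    rw [← Nat.card_coe_set_eq]; exact h64))
  have hm : (⟨tabPerm (oT i), tabPerm_mem (tabOK_oT hi).1⟩ : ↥M24) ∈ fixSet := by
    rw [fixSet_eq]
    exact ⟨i, hi, isTab_tabPerm (tabOK_oT hi).1⟩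
  rw [← heq] at hm
  obtain ⟨e, he⟩ := hm
  refine ⟨e, e.2, EE_le_NV e.2, ?_⟩
  have : M.pr ⟨(e : G), EE_le_NV (X := X) e.2⟩ = ⟨tabPerm (oT i), tabPerm_mem (tabOK_oT hi).1⟩ := he
  rw [this]
  exact isTab_tabPerm (tabOK_oT hi).1

omit hG in
theorem tab_right {t : ℕ} {a : ℕ} {k : G} (hk : k ∈ M.K) (h : M.Tab t (M.iv a * k)) : M.Tab t k := by
  obtain ⟨hn, ht⟩ := h
  refine ⟨M.hK hk, ?_⟩
  have e : M.pr ⟨M.iv a * k, hn⟩ = M.pr ⟨k, M.hK hk⟩ := by
    rw [show (⟨M.iv a * k, hn⟩ : ↥(NV X.std)) = ⟨M.iv a, M.iv_mem_NV a⟩ * ⟨k, M.hK hk⟩ from rfl, map_mul,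
      show M.pr ⟨M.iv a, M.iv_mem_NV a⟩ = 1 from
        (Cfsg.Agent.M24CocodeSplit.Split.proj_eq_one (VN X.std) M.φ).2 (M.iv_mem a), one_mul]
  rwa [← e]

omit hG in
theorem conj_EE_of_fix {t : ℕ} {gi : List ℕ} (hc : imgChk t gi = true) {g : G} (hg : M.Tab t g)
    (hfix : enc gi Data.sigma = Data.sigma) : g ∈ HH z := by
  have h := M.conj_iv hc hg Data.sigma
  rw [hfix, M.hz] at h
  exact mem_HH.2 (mul_inv_eq_iff_eq_mul.1 h)

theorem gen_EE {j : ℕ} (hj : j < 6) {g : G} (hg : g ∈ M.K) (ht : M.Tab (oT (2 ^ j)) g) : g ∈ EE z := by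
  have h := threeOK_eq
  simp only [threeOK, Bool.and_eq_true, List.all_eq_true, List.mem_range, Nat.blt_eq] at h
  obtain ⟨⟨⟨hr, hrs⟩, hrW⟩, hcom⟩ := h
  obtain ⟨hm, hrel⟩ := hcom j hj
  obtain ⟨r, hrK, hrT⟩ := M.exists_K (t := Data.rT) (by
    simp only [imgChk, Bool.and_eq_true] at hr; exact hr.1.1.1)
  obtain ⟨o, hoK, hoT⟩ := M.exists_K (tabOK_oT hm).1
  obtain ⟨e, he, heT⟩ := M.exists_EE_tab hG hm
  obtain ⟨a, ha, k, hk, hek⟩ := M.decomp (EE_le_NV (X := X) he)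
  subst hek
  obtain rfl : k = o := M.K_eq hk hoK (M.tab_right hk heT) hoT
  have hrel' : g * (k * r) = r * k := M.K_eq (mul_mem hg (mul_mem hk hrK)) (mul_mem hrK hk)
    (ht.mul (hoT.mul hrT)) (by rw [Nat.eq_of_beq_eq_true hrel]; exact hrT.mul hoT)
  have hrH := M.conj_EE_of_fix hr hrT (Nat.eq_of_beq_eq_true hrs)
  have hru : M.iv (enc Data.rI a ^^^ a) ∈ EE z := by
    have hlin : ∀ x, M.iv (enc Data.rI x ^^^ x) = r * M.iv x * r⁻¹ * M.iv x := fun x => by
      rw [M.iv_xor, M.conj_iv hr hrT x]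
    have hp := enc_closed (fun x => M.iv (enc Data.rI x ^^^ x) ∈ EE z)
      (by
        rw [hlin, M.iv_zero, mul_one, mul_one, mul_inv_cancel]
        exact one_mem _)
      (fun x y hx hy => by
        rw [enc_xor, show enc Data.rI x ^^^ enc Data.rI y ^^^ (x ^^^ y) =
          enc Data.rI x ^^^ x ^^^ (enc Data.rI y ^^^ y) by ac_rfl, M.iv_xor]
        exact mul_mem hx hy)
      ((List.range 11).map fun j => 2 ^ j) (fun y hy => by
        obtain ⟨i, hi, rfl⟩ := List.mem_map.1 hy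
        exact M.iv_EE hG (hrW i (List.mem_range.1 hi))) a
    rwa [pow_two_enc a ha] at hp
  have hc1 : r * (M.iv a * k) * r⁻¹ * (M.iv a * k)⁻¹ ∈ EE z := mul_mem (conj_mem_EE hrH he) (inv_mem he)
  have hiH : M.iv a ∈ HH z := mem_HH.2 (X.std_eleven.comm _ (M.iv_mem a) _ X.z_mem_std)
  have e2 : g = M.iv (enc Data.rI a ^^^ a) *
      (M.iv a * (r * (M.iv a * k) * r⁻¹ * (M.iv a * k)⁻¹) * (M.iv a)⁻¹) := by
    have eg : g = r * k * r⁻¹ * k⁻¹ := by rw [← hrel']; group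
    have er : r * M.iv a * r⁻¹ = M.iv (enc Data.rI a) := M.conj_iv hr hrT a
    rw [M.iv_xor, ← er, eg, M.iv_inv, mul_inv_rev, M.iv_inv]
    have h2 := M.iv_sq a
    calc r * k * r⁻¹ * k⁻¹
        = r * (M.iv a * M.iv a) * k * r⁻¹ * k⁻¹ := by rw [h2, mul_one]
      _ = r * M.iv a * r⁻¹ * 1 * r * (M.iv a * k) * r⁻¹ * k⁻¹ * 1 := by group
      _ = r * M.iv a * r⁻¹ * (M.iv a * M.iv a) * r * (M.iv a * k) * r⁻¹ * k⁻¹ * (M.iv a * M.iv a) := by
          rw [h2]
      _ = _ := by group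
  rw [e2]
  exact mul_mem hru (conj_mem_EE hiH hc1)

theorem oT_EE : ∀ n ≤ 6, ∀ i < 2 ^ n, ∀ k ∈ M.K, M.Tab (oT i) k → k ∈ EE z := by
  have h := fixOK_eq
  simp only [fixOK, Bool.and_eq_true, List.all_eq_true, List.mem_range] at h
  obtain ⟨⟨⟨⟨h0, -⟩, -⟩, hgen⟩, -⟩ := h
  intro n
  induction n with
  | zero =>
    intro _ i hi k hk ht
    obtain rfl : i = 0 := by simpa using hi
    rw [Nat.eq_of_beq_eq_true h0] at ht
    rw [M.K_eq hk (one_mem _) ht M.tab_one]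
    exact one_mem _
  | succ n ih =>
    intro hn i hi k hk ht
    rcases Nat.lt_or_ge i (2 ^ n) with h | h
    · exact ih (by omega) i h k hk ht
    obtain ⟨i', rfl⟩ := Nat.exists_eq_add_of_le h
    have hi' : i' < 2 ^ n := by rw [pow_succ] at hi; omega
    have hlt : 2 ^ n < 64 := by
      have : (2 : ℕ) ^ n ≤ 2 ^ 5 := Nat.pow_le_pow_right (by norm_num) (by omega)
      omega
    obtain ⟨g1, g2⟩ := hgen n (by omega)
    obtain ⟨g, hg, hgT⟩ := M.exists_K (tabOK_oT hlt).1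
    obtain ⟨l, hl, hlT⟩ := M.exists_K (tabOK_oT (show i' < 64 by omega)).1
    rw [Nat.eq_of_beq_eq_true (g2 i' hi'), ← Nat.eq_of_beq_eq_true g1] at ht
    rw [M.K_eq hk (mul_mem hg hl) ht (hgT.mul hlT)]
    exact mul_mem (M.gen_EE hG (by omega) hg hgT) (ih (by omega) i' hi' l hl hlT)

theorem fix_mem_EE {i : ℕ} (hi : i < 64) {k : G} (hk : k ∈ M.K) (ht : M.Tab (oT i) k) : k ∈ EE z :=
  M.oT_EE hG 6 le_rfl i hi k hk ht

theorem EE_decomp {e : G} (he : e ∈ EE z) :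
    ∃ w, inW w = true ∧ ∃ i < 64, ∃ k ∈ M.K, M.Tab (oT i) k ∧ e = M.iv w * k := by
  obtain ⟨a, ha, k, hk, rfl⟩ := M.decomp (EE_le_NV (X := X) he)
  have hf : M.pr ⟨M.iv a * k, EE_le_NV (X := X) he⟩ ∈ fixSet := M.EE_fixes hG he
  rw [fixSet_eq] at hf
  obtain ⟨i, hi, hT⟩ := hf
  have hkT := M.tab_right hk ⟨EE_le_NV he, hT⟩
  have hkE := M.fix_mem_EE hG hi hk hkT
  have hw : M.iv a ∈ EE z := by simpa using mul_mem he (inv_mem hkE)
  obtain ⟨w, hw', e'⟩ := M.exists_w hG (M.iv_mem a) hw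
  exact ⟨w, by simpa [inW] using hw', i, hi, k, hk, hkT, by rw [e']⟩

end Model

end Cfsg.Agent.J4V.Invol
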