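import Cfsg.Agent.Lib.J4V.Invol.Duad

/-!
# Janko four type: the centraliser of an involution not conjugate to `z` splits

It is conjugate to the subgroup of order `2 ^ 11` extended by the automorphism group of M22.
-/

set_option autoImplicit false
set_option maxRecDepth 20000
set_option linter.style.haveILetI false
set_option linter.unusedSectionVars false

namespace Cfsg.Agent.J4V.Invol

open Subgroup
open Cfsg
open Cfsg.Agent.J4Local Cfsg.Agent.J4Eleven
open Cfsg.Agent.J4V.Split (NV VN)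

universe u

variable {G : Type u} [Group G] [Finite G] {z : G} {P : Subgroup G}
  [IsSimpleGroup G] (hG : ¬ IsMulCommutative G)

include hG

theorem centralizer_split (X : Chart z P) (I : Ident X)
    (hcent : ∀ v ∈ X.std, v ≠ 1 → ¬ IsConj z v → centralizer ({v} : Set G) ≤ normalizer (X.std : Set G))
    (t : G) (ht : orderOf t = 2) (hnc : ¬ IsConj z t) :
    ∃ V K : Subgroup G, V ≤ centralizer ({t} : Set G) ∧ K ≤ centralizer ({t} : Set G) ∧
    centralizer ({t} : Set G) ≤ normalizer (V : Set G) ∧ Cfsg.IsElementaryAbelian 2 V ∧ Nat.card ↥V = 2 ^ 11 ∧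
    K ⊓ V = ⊥ ∧ K ⊔ V = centralizer ({t} : Set G) ∧ Nonempty (↥K ≃* MulAut ↥Cfsg.Spor.M22) := by
  obtain ⟨M⟩ := exists_model hG I
  have ht2 : t * t = 1 := by rw [← pow_two, ← ht, pow_orderOf_eq_one]
  have ht1 : t ≠ 1 := fun e => by rw [e, orderOf_one] at ht; omega
  obtain ⟨g, hg⟩ := M.exists_conj_mem hG ht2
  have hg1 : g * t * g⁻¹ ≠ 1 := fun e => ht1 (conj_eq_one_iff.1 e)
  have hgn : ¬ IsConj z (g * t * g⁻¹) := fun h => hnc (h.trans (isConj_iff.2 ⟨g, rfl⟩).symm)
  obtain ⟨hd, hd1, hdn⟩ := M.d0_other hG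
  obtain ⟨n, hn, hn'⟩ := X.others_conj hG hg hg1 hgn hd hd1 hdn
  have hCN := hcent _ hd hd1 hdn
  obtain ⟨iso⟩ := M.stab_iso hG
  set S := M.K ⊓ centralizer ({M.d0} : Set G) with hS
  have hle : X.std ≤ centralizer ({M.d0} : Set G) := fun a ha =>
    mem_centralizer_singleton_iff.2 (X.std_eleven.comm a ha _ hd)
  set e : MulAut G := MulAut.conj (n * g)⁻¹ with he
  have het : e M.d0 = t := by
    rw [← hn', he, MulAut.conj_apply]; group
  have hC : (centralizer ({M.d0} : Set G)).map e.toMonoidHom = centralizer ({t} : Set G) := by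
    ext y
    rw [mem_map_equiv, mem_centralizer_singleton_iff, mem_centralizer_singleton_iff]
    constructor
    · intro h
      have := congrArg e h
      rwa [map_mul, map_mul, MulEquiv.apply_symm_apply, het] at this
    · intro h
      apply e.injective
      rw [map_mul, map_mul, MulEquiv.apply_symm_apply, het, h]
  have hbig := (J4V.Big.of_eleven X.std_eleven).conj (n * g)⁻¹
  have hV : cjS (n * g)⁻¹ X.std = X.std.map e.toMonoidHom := rfl
  refine ⟨X.std.map e.toMonoidHom, S.map e.toMonoidHom, ?_, ?_, ?_, hV ▸ hbig.elementary, hV ▸ hbig.card, ?_, ?_, ?_⟩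
  · rw [← hC]; exact map_mono hle
  · rw [← hC]; exact map_mono inf_le_right
  · rw [← hC]
    rintro _ ⟨c, hc, rfl⟩
    refine M22Order.mem_normalizer_of_conj ?_
    rintro _ ⟨a, ha, rfl⟩
    exact ⟨c * a * c⁻¹, M22Order.conj_mem_of_mem_normalizer (hCN hc) ha, by simp⟩
  · rw [← map_inf _ _ _ e.injective, eq_bot_iff]
    rintro _ ⟨k, ⟨hk, hkV⟩, rfl⟩
    rw [M.inj k hk.1 hkV, map_one]
    exact one_mem _
  · rw [← hC, ← Subgroup.map_sup]
    congr 1
    refine le_antisymm (sup_le inf_le_right hle) fun c hc => ?_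
    obtain ⟨a, -, k, hk, rfl⟩ := M.decomp (hCN hc)
    have hkC : k ∈ centralizer ({M.d0} : Set G) := by
      simpa using mul_mem (inv_mem (hle (M.iv_mem a))) hc
    exact mul_mem (mem_sup_right (M.iv_mem a)) (mem_sup_left ⟨hk, hkC⟩)
  · exact ⟨(S.equivMapOfInjective _ e.injective).symm.trans iso⟩

end Cfsg.Agent.J4V.Invol
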