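import Cfsg.Agent.Lib.J4V.Unique

/-!
# Janko four type: the two orbits of `C` on the vectors conjugate into the fixed space

One has 1386 vectors; the other has more than 45 and its length divides 3465.
-/

set_option autoImplicit false
set_option linter.style.haveILetI false
set_option linter.unusedSectionVars false

namespace Cfsg.Agent.J4Eleven.Chart

open Subgroup
open Cfsg.Agent.J4Local

universe u

variable {G : Type u} [Group G] [Finite G] {z : G} {P : Subgroup G} (X : Chart z P)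

omit X in
/-- The elements of a subgroup of `H` fixing a vector. -/
def vStab (K : Subgroup G) (hK : K ≤ HH z) (w : VV z) : Subgroup G where
  carrier := {c | c ∈ K ∧ act z c w = w}
  one_mem' := ⟨one_mem _, act_one w⟩
  mul_mem' := fun {a b} ha hb => ⟨mul_mem ha.1 hb.1, by rw [act_mul (hK ha.1) (hK hb.1), hb.2, ha.2]⟩
  inv_mem' := fun {a} ha => ⟨inv_mem ha.1, by conv_lhs => rw [← ha.2, act_inv_act (hK ha.1)]⟩

omit X in
theorem orbit_mul (K : Subgroup G) (hK : K ≤ HH z) (w : VV z) :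
    {v | ∃ c ∈ K, act z c w = v}.ncard * Nat.card ↥(vStab K hK w) = Nat.card ↥K := by
  letI : MulAction ↥K (VV z) :=
    { smul := fun c v => act z (c : G) v
      one_smul := fun v => act_one v
      mul_smul := fun a b v => act_mul (hK a.2) (hK b.2) v }
  have h1 : MulAction.orbit ↥K w = {v | ∃ c ∈ K, act z c w = v} := by
    ext v
    constructor
    · rintro ⟨c, rfl⟩; exact ⟨c, c.2, rfl⟩
    · rintro ⟨c, hc, rfl⟩; exact ⟨⟨c, hc⟩, rfl⟩
  have h2 : (MulAction.stabilizer ↥K w).map K.subtype = vStab K hK w := by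
    ext c
    constructor
    · rintro ⟨d, hd, rfl⟩; exact ⟨d.2, hd⟩
    · rintro ⟨hc, hf⟩; exact ⟨⟨c, hc⟩, hf, rfl⟩
  rw [← h2, Nat.card_congr ((MulAction.stabilizer ↥K w).equivMapOfInjective _ K.subtype_injective).toEquiv.symm,
    ← h1, ← MulAction.index_stabilizer, mul_comm]
  exact (MulAction.stabilizer ↥K w).card_mul_index

theorem card_CC_NC : Nat.card ↥(CC z P) = 77 * Nat.card ↥X.NC := by
  have hN : Nat.card ↥X.NS = 5760 := (X.S.orbit_eq X.hcard).2
  have hi := X.NS.card_mul_index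
  rw [hN, X.hcard] at hi
  have hidx : (X.NS.comap X.π).index = 77 := by
    rw [index_comap_of_surjective _ X.surj]; omega
  have h := (X.NS.comap X.π).card_mul_index
  rw [hidx] at h
  have hc : Nat.card ↥X.NC = Nat.card ↥(X.NS.comap X.π) :=
    (Nat.card_congr ((X.NS.comap X.π).equivMapOfInjective _ (CC z P).subtype_injective).toEquiv).symm
  omega

/-- The vectors conjugate into the fixed space. -/
def U0 : Set (VV z) := {v | ∃ d ∈ CC z P, act z d v ∈ X.WV}

/-- The orbit of a vector. -/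
def orb (z : G) (P : Subgroup G) (w : VV z) : Set (VV z) := {v | ∃ c ∈ CC z P, act z c w = v}

theorem orb_five {w : VV z} (hw : w ∈ X.five) : (orb z P w).ncard = 1386 := by
  have h1 := orbit_mul (CC z P) (CC_le_HH z P) w
  have h2 := orbit_mul X.NC X.NC_le_HH w
  have hst : vStab (CC z P) (CC_le_HH z P) w = vStab X.NC X.NC_le_HH w := by
    ext c
    exact ⟨fun h => ⟨X.fix_point_normalizes hw h.1 (by rw [h.2]; exact self_mem_line _ _ _), h.2⟩,
      fun h => ⟨X.NC_le h.1, h.2⟩⟩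
  have horb : {v | ∃ c ∈ X.NC, act z c w = v} = X.five := by
    ext v
    constructor
    · rintro ⟨c, hc, rfl⟩; exact X.five_conj hc hw
    · exact fun hv => X.five_trans hw hv
  rw [horb, X.five_ncard] at h2
  rw [hst, X.card_CC_NC, ← h2, ← mul_assoc] at h1
  exact Nat.eq_of_mul_eq_mul_right Nat.card_pos h1

/-- The vectors of degree three. -/
def threes : Set (VV z) := {w | w ∈ X.WV ∧ w ≠ 0 ∧ X.deg w = 3}

theorem WV_split : (X.WV : Set (VV z)) \ {0} = X.five ∪ X.threes ∧ Disjoint X.five X.threes := by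
  refine ⟨Set.ext fun v => ⟨fun ⟨hv, hv0⟩ => ?_, ?_⟩, Set.disjoint_left.2 fun v h5 h3 => ?_⟩
  · rcases X.deg_cases hv hv0 with h | h
    exacts [Or.inr ⟨hv, hv0, h⟩, Or.inl ⟨hv, hv0, h⟩]
  · rintro (h | h) <;> exact ⟨h.1, h.2.1⟩
  · have := h5.2.2.symm.trans h3.2.2
    omega

theorem threes_ncard : X.threes.ncard = 45 := by
  obtain ⟨h, hd⟩ := X.WV_split
  have h1 : ((X.WV : Set (VV z)) \ {0}).ncard = 63 := by
    rw [Set.ncard_sdiff_singleton_of_mem (zero_mem _), ← Nat.card_coe_set_eq, SetLike.coe_sort_coe, X.card_WV.1]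
    norm_num
  rw [h, Set.ncard_union_eq hd, X.five_ncard] at h1
  omega

theorem threes_orb {w : VV z} (hw : w ∈ X.threes) : {v | ∃ c ∈ X.NC, act z c w = v} = X.threes := by
  ext v
  constructor
  · rintro ⟨c, hc, rfl⟩
    exact ⟨X.NC_WV hc hw.1, fun e => hw.2.1 (act_injective (X.NC_le_HH hc) (e.trans (map_zero _).symm)),
      (X.deg_conj hc w).trans hw.2.2⟩
  · exact fun hv => X.three_trans hw.1 hw.2.1 hw.2.2 hv.1 hv.2.1 hv.2.2

theorem orb_three_dvd {w : VV z} (hw : w ∈ X.threes) : (orb z P w).ncard ∣ 3465 := by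
  have h1 := orbit_mul (CC z P) (CC_le_HH z P) w
  have h2 := orbit_mul X.NC X.NC_le_HH w
  have hle : vStab X.NC X.NC_le_HH w ≤ vStab (CC z P) (CC_le_HH z P) w := fun c h => ⟨X.NC_le h.1, h.2⟩
  obtain ⟨k, hk⟩ := card_dvd_of_le hle
  rw [X.threes_orb hw, X.threes_ncard] at h2
  refine ⟨k, Nat.eq_of_mul_eq_mul_right (show 0 < Nat.card ↥(vStab X.NC X.NC_le_HH w) from Nat.card_pos) ?_⟩
  rw [X.card_CC_NC, ← h2, hk] at h1
  calc 3465 * Nat.card ↥(vStab X.NC X.NC_le_HH w) = 77 * (45 * Nat.card ↥(vStab X.NC X.NC_le_HH w)) := by ring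
    _ = (orb z P w).ncard * (Nat.card ↥(vStab X.NC X.NC_le_HH w) * k) := h1.symm
    _ = _ := by ring

include X in
theorem mem_orb_self (w : VV z) : w ∈ orb z P w := ⟨1, one_mem _, act_one w⟩

include X in
theorem orb_eq {v w : VV z} (h : v ∈ orb z P w) : orb z P v = orb z P w := by
  obtain ⟨c, hc, rfl⟩ := h
  ext u
  constructor
  · rintro ⟨d, hd, rfl⟩
    exact ⟨d * c, mul_mem hd hc, act_mul hd.1 hc.1 w⟩
  · rintro ⟨d, hd, rfl⟩
    exact ⟨d * c⁻¹, mul_mem hd (inv_mem hc), by rw [act_mul hd.1 (inv_mem hc.1), act_inv_act hc.1]⟩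

theorem five_not_three {w v : VV z} (hw : w ∈ X.five) (hv : v ∈ X.threes) : v ∉ orb z P w := fun h => by
  have hd := X.orb_three_dvd hv
  rw [X.orb_eq h, X.orb_five hw] at hd
  norm_num at hd

theorem lt_orb_three {w : VV z} (hw : w ∈ X.threes) : 45 < (orb z P w).ncard := by
  have hsub : X.threes ⊆ orb z P w := by
    rw [← X.threes_orb hw]
    rintro _ ⟨c, hc, rfl⟩
    exact ⟨c, X.NC_le hc, rfl⟩
  refine lt_of_le_of_ne (X.threes_ncard ▸ Set.ncard_le_ncard hsub) fun he => ?_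
  have heq : orb z P w = X.threes := (Set.eq_of_subset_of_ncard_le hsub (by rw [← he, X.threes_ncard])).symm
  have hstay : ∀ c ∈ CC z P, ∀ v ∈ X.threes, act z c v ∈ X.threes := fun c hc v hv => by
    have hvo : v ∈ orb z P w := heq ▸ hv
    rw [← heq, ← X.orb_eq hvo]
    exact ⟨c, hc, rfl⟩
  have hspan : AddSubgroup.closure X.threes = X.WV := by
    have hle : AddSubgroup.closure X.threes ≤ X.WV := (AddSubgroup.closure_le _).2 fun v hv => hv.1
    refine AddSubgroup.eq_of_le_of_card_ge hle ?_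
    obtain ⟨i, hi, hci⟩ := (Nat.dvd_prime_pow Nat.prime_two).1 (X.card_WV.1 ▸ AddSubgroup.card_dvd_of_le hle)
    have h45 : 45 ≤ Nat.card ↥(AddSubgroup.closure X.threes) := by
      rw [← X.threes_ncard, ← SetLike.coe_sort_coe, Nat.card_coe_set_eq]
      exact Set.ncard_le_ncard AddSubgroup.subset_closure
    rw [X.card_WV.1, hci]
    rw [hci] at h45
    interval_cases i <;> omega
  obtain ⟨w5, hw5⟩ := Set.nonempty_of_ncard_ne_zero (show X.five.ncard ≠ 0 by rw [X.five_ncard]; omega)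
  have hall : ∀ c ∈ CC z P, c ∈ X.NC := fun c hc => by
    have hW : act z c w5 ∈ X.WV := by
      have hle : AddSubgroup.closure X.threes ≤ X.WV.comap (act z c) :=
        (AddSubgroup.closure_le _).2 fun v hv => (hstay c hc v hv).1
      rw [hspan] at hle
      exact hle hw5.1
    have h5 : act z c w5 ∈ X.five := by
      have hm : act z c w5 ∈ (X.WV : Set (VV z)) \ {0} :=
        ⟨hW, fun e => hw5.2.1 (act_injective hc.1 ((Set.mem_singleton_iff.1 e).trans (map_zero _).symm))⟩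
      rw [X.WV_split.1] at hm
      exact hm.resolve_right fun h3 => X.five_not_three hw5 h3 ⟨c, hc, rfl⟩
    obtain ⟨f, hf, hfe⟩ := X.five_trans h5 hw5
    have := X.fix_point_normalizes hw5 (mul_mem (X.NC_le hf) hc) (by
      rw [act_mul (X.NC_le_HH hf) hc.1, hfe]; exact self_mem_line _ _ _)
    simpa using mul_mem (inv_mem hf) this
  have h := Subgroup.card_le_of_le (hall : CC z P ≤ X.NC)
  rw [X.card_CC_NC] at h
  have : 0 < Nat.card ↥X.NC := Nat.card_pos
  omega

theorem U0_split {w w' : VV z} (hw : w ∈ X.five) (hw' : w' ∈ X.threes) :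
    X.U0 \ {0} = orb z P w ∪ orb z P w' := by
  ext v
  constructor
  · rintro ⟨⟨d, hd, hdv⟩, hv0⟩
    have hm : act z d v ∈ (X.WV : Set (VV z)) \ {0} :=
      ⟨hdv, fun e => hv0 (act_injective hd.1 ((Set.mem_singleton_iff.1 e).trans (map_zero _).symm))⟩
    rw [X.WV_split.1] at hm
    rcases hm with h | h
    · obtain ⟨c, hc, e⟩ := X.five_trans hw h
      exact Or.inl ⟨d⁻¹ * c, mul_mem (inv_mem hd) (X.NC_le hc), by
        rw [act_mul (inv_mem hd.1) (X.NC_le_HH hc), e, act_inv_act hd.1]⟩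
    · obtain ⟨c, hc, e⟩ := (X.threes_orb hw').symm ▸ h
      exact Or.inr ⟨d⁻¹ * c, mul_mem (inv_mem hd) (X.NC_le hc), by
        rw [act_mul (inv_mem hd.1) (X.NC_le_HH hc), e, act_inv_act hd.1]⟩
  · rintro (⟨c, hc, rfl⟩ | ⟨c, hc, rfl⟩)
    · exact ⟨⟨c⁻¹, inv_mem hc, by rw [act_inv_act hc.1]; exact hw.1⟩,
        fun e => hw.2.1 (act_injective hc.1 ((Set.mem_singleton_iff.1 e).trans (map_zero _).symm))⟩
    · exact ⟨⟨c⁻¹, inv_mem hc, by rw [act_inv_act hc.1]; exact hw'.1⟩,
        fun e => hw'.2.1 (act_injective hc.1 ((Set.mem_singleton_iff.1 e).trans (map_zero _).symm))⟩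

/-- The vectors outside the fixed space conjugate into it. -/
theorem U0_outside : ∃ n, n ∣ 3465 ∧ 45 < n ∧ (X.U0 \ (X.WV : Set (VV z))).ncard + 63 = 1386 + n := by
  obtain ⟨w, hw⟩ := Set.nonempty_of_ncard_ne_zero (show X.five.ncard ≠ 0 by rw [X.five_ncard]; omega)
  obtain ⟨w', hw'⟩ := Set.nonempty_of_ncard_ne_zero (show X.threes.ncard ≠ 0 by rw [X.threes_ncard]; omega)
  refine ⟨_, X.orb_three_dvd hw', X.lt_orb_three hw', ?_⟩
  have hdis : Disjoint (orb z P w) (orb z P w') := Set.disjoint_left.2 fun v h h' => X.five_not_three hw hw' (by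
    rw [← X.orb_eq h, X.orb_eq h']; exact X.mem_orb_self w')
  have h1 : (X.U0 \ {0}).ncard = 1386 + (orb z P w').ncard := by
    rw [X.U0_split hw hw', Set.ncard_union_eq hdis, X.orb_five hw]
  have hsub : (X.WV : Set (VV z)) ⊆ X.U0 := fun v hv => ⟨1, one_mem _, by rwa [act_one]⟩
  have h2 := Set.ncard_sdiff_add_ncard_of_subset hsub
  have h3 := Set.ncard_sdiff_singleton_of_mem (hsub (zero_mem X.WV))
  have hW : (X.WV : Set (VV z)).ncard = 64 := by
    rw [← Nat.card_coe_set_eq, SetLike.coe_sort_coe, X.card_WV.1]; norm_num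
  omega

end Cfsg.Agent.J4Eleven.Chart
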