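import Cfsg.Agent.Lib.J4V.Invol.Core
import Cfsg.Agent.Lib.J4V.Invol.Orbit

/-!
# Janko four type: the involutions of `E` are conjugate into the subgroup of order `2 ^ 11`

The singular vectors outside the fixed space fall into four orbits of the normaliser in `H`; the lengths
of the two orbits of `C` leave no room for another.
-/

set_option autoImplicit false
set_option maxRecDepth 20000
set_option linter.style.haveILetI false
set_option linter.unusedSectionVars false

namespace Cfsg.Agent.J4V.Invol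

open Subgroup
open Cfsg Cfsg.Agent.Golay.Basic Cfsg.Agent.Golay.Cert Cfsg.Agent.Golay.TabList
open Cfsg.Agent.Golay.M24
open Cfsg.Agent.J4Local Cfsg.Agent.J4Eleven
open Cfsg.Agent.J4V.Split (NV VN)
open Cfsg.Agent.M24CocodeSplit.Checks (imgChk)
open Checks

universe u

/-- The codes of the orbits selected by four truth values. -/
def sel (b0 b1 b2 b3 : Bool) (c : ℕ) : Bool :=
  (b0 && (omask 0).testBit c) || (b1 && (omask 1).testBit c) || (b2 && (omask 2).testBit c) ||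
    (b3 && (omask 3).testBit c)

theorem sel_arith : ∀ b0 b1 b2 b3 : Bool,
    ((List.range 4096).filter (sel b0 b1 b2 b3)).length + 63 ≤ 1386 + 45 ∨
      ¬ 3465 % (((List.range 4096).filter (sel b0 b1 b2 b3)).length + 63 - 1386) = 0 ∨
      (b0 && b1 && b2 && b3) = true := by decide +kernel

theorem oI_lt : ∀ i < 64, ∀ y ∈ oIm i, y < 2048 := by decide +kernel

theorem half_facts : (∀ j < 64, inW (whAt j) = true ∧ whAt j < 2048) ∧
    (∀ i < 64, ∀ j < 64, whAt i = whAt j → i = j) ∧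
    (∀ i < 64, ∀ j < 64, whAt i ≠ whAt j ^^^ Data.sigma) ∧
    ∀ w, inW w = true → ∃ j < 64, w = whAt j ∨ w = whAt j ^^^ Data.sigma := by
  have h := halfOK_eq
  simp only [halfOK, Bool.and_eq_true, decide_eq_true_eq, List.all_eq_true, Bool.not_eq_true',
    Bool.or_eq_true, List.contains_iff_mem] at h
  obtain ⟨⟨⟨hlen, hnd⟩, hall⟩, hcov⟩ := h
  have hlen := Nat.eq_of_beq_eq_true hlen
  have hget : ∀ {j}, j < 64 → whAt j ∈ Data.wh := fun {j} hj => by
    rw [whAt, List.getD_eq_getElem _ _ (by omega)]; exact List.getElem_mem _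
  have hW : ∀ j < 64, inW (whAt j) = true := fun j hj => (hall _ (hget hj)).1
  refine ⟨fun j hj => ⟨hW j hj, wList_nodup.2.2 _ (by simpa [inW] using hW j hj)⟩, ?_, ?_, ?_⟩
  · intro i hi j hj e
    simp only [whAt, List.getD_eq_getElem _ _ (show i < Data.wh.length by omega),
      List.getD_eq_getElem _ _ (show j < Data.wh.length by omega)] at e
    exact hnd.getElem_inj_iff.1 e
  · intro i hi j hj e
    have := (hall _ (hget hj)).2
    rw [← e] at this
    simp [hget hi] at this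
  · intro w hw
    have : w ∈ wList := by simpa [inW] using hw
    rcases hcov w this with h | h
    all_goals
      obtain ⟨j, hj, e⟩ := List.getElem_of_mem h
    · exact ⟨j, by omega, Or.inl (by rw [whAt, List.getD_eq_getElem _ _ hj, e])⟩
    · exact ⟨j, by omega, Or.inr (by rw [whAt, List.getD_eq_getElem _ _ hj, e, Nat.xor_assoc, Nat.xor_self, Nat.xor_zero])⟩

theorem div_mod_code {c : ℕ} (hc : c < 4096) : c / 64 < 64 ∧ c % 64 < 64 := by omega

namespace Model

variable {G : Type u} [Group G] [Finite G] {z : G} {P : Subgroup G} {X : Chart z P} (M : Model X)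
  [IsSimpleGroup G] (hG : ¬ IsMulCommutative G)

open _root_.Classical in
/-- The element of the complement with a given table of the list. -/
noncomputable def kO (i : ℕ) : G := if h : i < 64 then (M.exists_K (tabOK_oT h).1).choose else 1

theorem kO_mem {i : ℕ} (hi : i < 64) : M.kO i ∈ M.K ∧ M.Tab (oT i) (M.kO i) := by
  rw [kO, dif_pos hi]
  exact (M.exists_K (tabOK_oT hi).1).choose_spec

theorem kO_eq {i : ℕ} (hi : i < 64) {k : G} (hk : k ∈ M.K) (ht : M.Tab (oT i) k) : M.kO i = k :=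
  M.K_eq (M.kO_mem hi).1 hk (M.kO_mem hi).2 ht

theorem tab_unique {s t : ℕ} {g : G} (hs : canon s = true) (ht : canon t = true) (h1 : M.Tab s g)
    (h2 : M.Tab t g) : s = t := eq_of_isTab hs ht h1.2 h2.2

/-- The element of a code. -/
noncomputable def elt (c : ℕ) : G := M.iv (whAt (c % 64)) * M.kO (c / 64)

theorem kO_sq {i : ℕ} (hi : i < 64) : M.kO i * M.kO i = 1 := by
  obtain ⟨h1, h2⟩ := M.kO_mem hi
  have h := h2.mul h2
  rw [(fix_facts hi).2.1] at h
  exact M.K_eq (mul_mem h1 h1) (one_mem _) h M.tab_one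

theorem elt_sq {c : ℕ} (hc : c < 4096) :
    M.elt c * M.elt c = 1 ↔ enc (oIm (c / 64)) (whAt (c % 64)) = whAt (c % 64) := by
  obtain ⟨hi, hj⟩ := div_mod_code hc
  obtain ⟨h1, h2⟩ := M.kO_mem hi
  have e : M.elt c * M.elt c = M.iv (whAt (c % 64) ^^^ enc (oIm (c / 64)) (whAt (c % 64))) := by
    rw [M.iv_xor, ← M.conj_iv (fix_facts hi).1 h2, elt]
    calc M.iv (whAt (c % 64)) * M.kO (c / 64) * (M.iv (whAt (c % 64)) * M.kO (c / 64))
        = M.iv (whAt (c % 64)) * (M.kO (c / 64) * M.iv (whAt (c % 64)) * (M.kO (c / 64))⁻¹) *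
          (M.kO (c / 64) * M.kO (c / 64)) := by group
      _ = _ := by rw [M.kO_sq hi, mul_one]
  have hw := (half_facts.1 _ hj).2
  have he := enc_lt _ (oI_lt _ hi) (whAt (c % 64))
  rw [e]
  constructor
  · intro h
    have h' := M.iv_inj (Nat.xor_lt_two_pow (n := 11) hw he) (by norm_num) (h.trans M.iv_zero.symm)
    have := congrArg (· ^^^ whAt (c % 64)) h'
    simp only [Nat.zero_xor] at this
    rwa [Nat.xor_comm (whAt _), Nat.xor_assoc, Nat.xor_self, Nat.xor_zero] at this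
  · intro h; rw [h, Nat.xor_self, M.iv_zero]

include hG

theorem kO_EE {i : ℕ} (hi : i < 64) : M.kO i ∈ EE z :=
  M.fix_mem_EE hG hi (M.kO_mem hi).1 (M.kO_mem hi).2

theorem elt_EE {c : ℕ} (hc : c < 4096) : M.elt c ∈ EE z :=
  mul_mem (M.iv_EE hG (half_facts.1 _ (div_mod_code hc).2).1) (M.kO_EE hG (div_mod_code hc).1)

theorem iv_mul_z {w : ℕ} {k : G} (hk : k ∈ EE z) : M.iv w * k * z = M.iv (w ^^^ Data.sigma) * k := by
  rw [M.iv_xor, M.hz, mul_assoc, mul_assoc, X.L.J.ctr.comm hk]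

theorem vk_elt_of_same {w : ℕ} {c : ℕ} (hc : c < 4096) (hw : inW w = true)
    (h : same (whAt (c % 64)) w = true) : vk z (M.iv w * M.kO (c / 64)) = vk z (M.elt c) := by
  simp only [same, Bool.or_eq_true] at h
  rcases h with h | h
  · rw [elt, Nat.eq_of_beq_eq_true h]
  · have hE : M.iv w * M.kO (c / 64) ∈ EE z := mul_mem (M.iv_EE hG hw) (M.kO_EE hG (div_mod_code hc).1)
    rw [elt, Nat.eq_of_beq_eq_true h, ← M.iv_mul_z hG (M.kO_EE hG (div_mod_code hc).1),
      X.vk_mul_z hE]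

theorem exists_code {e : G} (he : e ∈ EE z) : ∃ c < 4096, vk z (M.elt c) = vk z e := by
  obtain ⟨w, hw, i, hi, k, hk, hkT, rfl⟩ := M.EE_decomp hG he
  obtain ⟨j, hj, h⟩ := half_facts.2.2.2 w hw
  refine ⟨i * 64 + j, by omega, ?_⟩
  rw [← M.vk_elt_of_same hG (c := i * 64 + j) (by omega) hw, show (i * 64 + j) / 64 = i by omega,
    M.kO_eq hi hk hkT]
  rw [show (i * 64 + j) % 64 = j by omega]
  simp only [same, Bool.or_eq_true]
  rcases h with rfl | rfl
  · exact Or.inl (Nat.beq_refl _)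
  · refine Or.inr ?_
    rw [Nat.xor_assoc, Nat.xor_self, Nat.xor_zero]
    exact Nat.beq_refl _

theorem code_inj {a b : ℕ} (ha : a < 4096) (hb : b < 4096) (h : vk z (M.elt a) = vk z (M.elt b)) : a = b := by
  obtain ⟨ai, aj⟩ := div_mod_code ha
  obtain ⟨bi, bj⟩ := div_mod_code hb
  have hwa := (half_facts.1 _ aj).2
  have hwb := (half_facts.1 _ bj).2
  have key : ∀ w < 2048, M.iv (whAt (a % 64)) * M.kO (a / 64) = M.iv w * M.kO (b / 64) →
      whAt (a % 64) = w ∧ a / 64 = b / 64 := by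
    intro w hw e
    obtain ⟨e1, e2⟩ := M.decomp_unique hwa hw (M.kO_mem ai).1 (M.kO_mem bi).1 e
    refine ⟨e1, oT_inj ai bi (M.tab_unique (tabOK_oT ai).2 (tabOK_oT bi).2 (M.kO_mem ai).2 ?_)⟩
    rw [e2]; exact (M.kO_mem bi).2
  rcases (vk_eq_vk_iff X.L.J (M.elt_EE hG ha) (M.elt_EE hG hb)).1 h with e | e
  · obtain ⟨e1, e2⟩ := key _ hwb e
    have := half_facts.2.1 _ aj _ bj e1
    omega
  · rw [elt, elt, M.iv_mul_z hG (M.kO_EE hG bi)] at e
    obtain ⟨e1, -⟩ := key _ (Nat.xor_lt_two_pow (n := 11) hwb duads_facts.2.2.2.2.1) e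
    exact absurd e1 (half_facts.2.2.1 _ aj _ bj)

theorem elt_WV_iff {c : ℕ} (hc : c < 4096) : vk z (M.elt c) ∈ X.WV ↔ c < 64 := by
  obtain ⟨hi, hj⟩ := div_mod_code hc
  constructor
  · intro h
    have hm : M.elt c ∈ X.std := X.preV_le_std ⟨M.elt_EE hG hc, h⟩
    have hk : M.kO (c / 64) ∈ X.std := by
      have := mul_mem (inv_mem (M.iv_mem (whAt (c % 64)))) hm
      rwa [elt, inv_mul_cancel_left] at this
    have e := M.inj _ (M.kO_mem hi).1 hk
    have hf := fixOK_eq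
    simp only [fixOK, Bool.and_eq_true] at hf
    have h0 := Nat.eq_of_beq_eq_true hf.1.1.1.1
    have := oT_inj hi (show 0 < 64 by norm_num) (M.tab_unique (tabOK_oT hi).2 (tabOK_oT (by norm_num)).2
      (M.kO_mem hi).2 (by rw [e, h0]; exact M.tab_one))
    omega
  · intro h
    have e0 : c / 64 = 0 := by omega
    have hk : M.kO (c / 64) = 1 := by
      have hf := fixOK_eq
      simp only [fixOK, Bool.and_eq_true] at hf
      exact M.kO_eq hi (one_mem _) (by rw [e0, Nat.eq_of_beq_eq_true hf.1.1.1.1]; exact M.tab_one)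
    exact (X.std_inf_EE (by rw [elt, hk, mul_one]; exact M.iv_mem _) (M.elt_EE hG hc)).2

omit M in
theorem U0_act {g : G} (hg : g ∈ HH z) {v : VV z} (hv : v ∈ X.U0) : act z g v ∈ X.U0 := by
  obtain ⟨d, hd, hdv⟩ := hv
  obtain ⟨x, hx, rfl⟩ := vk_surj v
  rw [act_vk hd.1 hx] at hdv
  have hm : d * x * d⁻¹ ∈ X.std := X.preV_le_std ⟨conj_mem_EE hd.1 hx, hdv⟩
  obtain ⟨d', hd', e⟩ := X.exists_conj_std (X.std_eleven.conj (mul_mem hg (inv_mem hd.1)))
  refine ⟨d', hd', ?_⟩
  rw [act_vk hg hx, act_vk hd'.1 (conj_mem_EE hg hx)]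
  refine (X.std_inf_EE ?_ (conj_mem_EE hd'.1 (conj_mem_EE hg hx))).2
  rw [← e]
  exact ⟨g * x * g⁻¹, ⟨d * x * d⁻¹, hm, by
    show g * d⁻¹ * (d * x * d⁻¹) * (g * d⁻¹)⁻¹ = g * x * g⁻¹; group⟩, rfl⟩

theorem U0_act_iff {g : G} (hg : g ∈ HH z) {v : VV z} : act z g v ∈ X.U0 ↔ v ∈ X.U0 :=
  ⟨fun h => by
    have := U0_act hG (inv_mem hg) h
    rwa [act_inv_act hg] at this, U0_act hG hg⟩

theorem move_elt {g : G} (hgH : g ∈ HH z) {a b : ℕ} (ha : a < 4096) (hb : b < 4096) {w : ℕ}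
    (hw : g * M.elt a * g⁻¹ = M.iv w * M.kO (b / 64)) (hs : same (whAt (b % 64)) w = true) :
    vk z (M.elt b) = act z g (vk z (M.elt a)) := by
  rw [act_vk hgH (M.elt_EE hG ha), hw, M.vk_elt_of_same hG hb ?_ hs]
  simp only [same, Bool.or_eq_true] at hs
  have hwb := (half_facts.1 _ (div_mod_code hb).2).1
  rcases hs with hs | hs
  · rwa [← Nat.eq_of_beq_eq_true hs]
  · have hs' := Nat.eq_of_beq_eq_true hs
    have : w = whAt (b % 64) ^^^ Data.sigma := by rw [hs', Nat.xor_assoc, Nat.xor_self, Nat.xor_zero]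
    rw [this]
    have hwm : whAt (b % 64) ∈ wList := by simpa [inW] using hwb
    have hsm : Data.sigma ∈ wList := by
      have h := spanOK_eq
      simp only [spanOK, Bool.and_eq_true] at h
      simpa [inW] using h.1.2
    simp only [wList, List.mem_map, List.mem_range] at hwm hsm
    obtain ⟨p, hp, ep⟩ := hwm
    obtain ⟨q, hq, eq⟩ := hsm
    simp only [inW, List.contains_iff_mem, wList, List.mem_map, List.mem_range]
    exact ⟨p ^^^ q, Nat.xor_lt_two_pow (n := 7) hp hq, by rw [enc_xor, ep, eq]⟩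

theorem step_act {g a b : ℕ} (ha : a < 4096) (hb : b < 4096) (h : step g a b = true) :
    ∃ x ∈ HH z, vk z (M.elt b) = act z x (vk z (M.elt a)) := by
  obtain ⟨ai, aj⟩ := div_mod_code ha
  obtain ⟨bi, bj⟩ := div_mod_code hb
  unfold step at h
  cases hg : Nat.blt g 11 <;> rw [hg] at h <;> simp only [cond_true, cond_false, Bool.and_eq_true] at h
  · obtain ⟨⟨hg13, hi⟩, hs⟩ := h
    rw [Nat.blt_eq] at hg13
    have hg11 : ¬ g < 11 := fun hh => by rw [← Nat.blt_eq, hg] at hh; exact Bool.noConfusion hh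
    have hn : g - 11 ∈ [0, 1] := by simp only [List.mem_cons, List.not_mem_nil, or_false]; omega
    have hk := kapOK_eq
    simp only [kapOK, List.all_eq_true, Bool.and_eq_true, List.mem_range] at hk
    obtain ⟨⟨hc, hfix⟩, hperm⟩ := hk _ hn
    obtain ⟨hp, hmul⟩ := hperm _ ai
    obtain ⟨x, hxK, hxT⟩ := M.exists_K (t := kapT (g - 11)) (by
      simp only [imgChk, Bool.and_eq_true] at hc; exact hc.1.1.1)
    have hxH := M.conj_EE_of_fix hc hxT (Nat.eq_of_beq_eq_true hfix)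
    refine ⟨x, hxH, M.move_elt hG hxH ha hb ?_ hs⟩
    have hconj : x * M.kO (a / 64) = M.kO (b / 64) * x := M.K_eq (mul_mem hxK (M.kO_mem ai).1)
      (mul_mem (M.kO_mem bi).1 hxK) (hxT.mul (M.kO_mem ai).2)
      (by rw [Nat.eq_of_beq_eq_true hmul, ← Nat.eq_of_beq_eq_true hi]; exact (M.kO_mem bi).2.mul hxT)
    rw [← M.conj_iv hc hxT, elt]
    calc x * (M.iv (whAt (a % 64)) * M.kO (a / 64)) * x⁻¹
        = x * M.iv (whAt (a % 64)) * x⁻¹ * (x * M.kO (a / 64)) * x⁻¹ := by group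
      _ = _ := by rw [hconj]; group
  · obtain ⟨hi, hs⟩ := h
    have hgH : M.iv (2 ^ g) ∈ HH z := mem_HH.2 (X.std_eleven.comm _ (M.iv_mem _) _ X.z_mem_std)
    refine ⟨_, hgH, M.move_elt hG hgH ha hb ?_ hs⟩
    rw [Nat.eq_of_beq_eq_true hi, M.iv_xor, M.iv_xor, ← M.conj_iv (fix_facts ai).1 (M.kO_mem ai).2, elt,
      M.iv_inv, M.iv_comm (whAt _) (2 ^ g)]
    group

theorem tree_spec {b : Prop} : ∀ (l : List ℕ) (seen target : ℕ), treeOK l seen target = true →
    (∀ c < 4096, seen.testBit c = true → (vk z (M.elt c) ∈ X.U0 ↔ b)) →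
    ∀ c < 4096, target.testBit c = true → (vk z (M.elt c) ∈ X.U0 ↔ b)
  | [], seen, target, h, hs => by
    simp only [treeOK] at h
    rwa [← Nat.eq_of_beq_eq_true h]
  | e :: es, seen, target, h, hs => by
    simp only [treeOK, Bool.and_eq_true] at h
    obtain ⟨⟨hp, hst⟩, hrec⟩ := h
    refine tree_spec es _ target hrec fun c hc hbit => ?_
    rw [Nat.testBit_or, Bool.or_eq_true] at hbit
    rcases hbit with hbit | hbit
    · exact hs c hc hbit
    rw [Nat.one_shiftLeft, Nat.testBit_two_pow, decide_eq_true_eq] at hbit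
    subst hbit
    obtain ⟨x, hx, ex⟩ := M.step_act hG (Nat.mod_lt _ (by norm_num)) (Nat.mod_lt _ (by norm_num)) hst
    rw [ex, U0_act_iff hG hx]
    exact hs _ (Nat.mod_lt _ (by norm_num)) hp

theorem orbit_mem {k : ℕ} (hk : k < 4) {c : ℕ} (hc : c < 4096) (h : (omask k).testBit c = true) :
    (vk z (M.elt c) ∈ X.U0 ↔ vk z (M.elt (root k)) ∈ X.U0) := by
  have ho := orbitOK_eq
  simp only [orbitOK, Bool.and_eq_true, List.all_eq_true, List.mem_range] at ho
  obtain ⟨⟨⟨-, ht⟩, -⟩, -⟩ := ho.1 k hk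
  refine M.tree_spec hG _ _ _ ht (fun d hd hbit => ?_) c hc h
  rw [Nat.one_shiftLeft, Nat.testBit_two_pow, decide_eq_true_eq] at hbit
  rw [hbit]

omit M hG in
theorem sing_iff {c : ℕ} (hc : c < 4096) : sing c = true ↔ ∃ k < 4, (omask k).testBit c = true := by
  have ho := orbitOK_eq
  simp only [orbitOK, Bool.and_eq_true, List.all_eq_true, List.mem_range, beq_iff_eq] at ho
  rw [ho.2 c hc]
  simp [List.any_eq_true]

theorem QQ_U0 {v : VV z} (hv : v ∈ X.U0) : QQ z v = 0 := by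
  obtain ⟨d, hd, h⟩ := hv
  rw [← QQ_act X.L.J hd.1 v]
  exact X.QQ_WV h

theorem all_singular {c : ℕ} (hc : c < 4096) (hs : sing c = true) : vk z (M.elt c) ∈ X.U0 := by
  classical
  set B : ℕ → Bool := fun k => decide (vk z (M.elt (root k)) ∈ X.U0) with hB
  have hsel : ∀ c < 4096, (64 ≤ c ∧ vk z (M.elt c) ∈ X.U0) ↔ sel (B 0) (B 1) (B 2) (B 3) c = true := by
    intro c hc
    constructor
    · rintro ⟨h64, hU⟩
      have hsq : M.elt c * M.elt c = 1 := (QQ_vk_eq_zero X.L.J (M.elt_EE hG hc)).1 (QQ_U0 hG hU)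
      have : sing c = true := by
        simp only [sing, Bool.and_eq_true, Nat.ble_eq, Nat.blt_eq]
        exact ⟨⟨h64, hc⟩, by rw [(M.elt_sq hc).1 hsq]; exact Nat.beq_refl _⟩
      obtain ⟨k, hk, hbit⟩ := (sing_iff hc).1 this
      have hBk : B k = true := decide_eq_true ((M.orbit_mem hG hk hc hbit).1 hU)
      have : k = 0 ∨ k = 1 ∨ k = 2 ∨ k = 3 := by omega
      rcases this with rfl | rfl | rfl | rfl <;> simp [sel, hBk, hbit]
    · intro h
      simp only [sel, Bool.or_eq_true, Bool.and_eq_true] at h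
      obtain ⟨k, hk, hBk, hbit⟩ : ∃ k < 4, B k = true ∧ (omask k).testBit c = true := by
        rcases h with ((⟨a, b⟩ | ⟨a, b⟩) | ⟨a, b⟩) | ⟨a, b⟩
        exacts [⟨0, by norm_num, a, b⟩, ⟨1, by norm_num, a, b⟩, ⟨2, by norm_num, a, b⟩, ⟨3, by norm_num, a, b⟩]
      have hsg := (sing_iff hc).2 ⟨k, hk, hbit⟩
      simp only [sing, Bool.and_eq_true, Nat.ble_eq] at hsg
      exact ⟨hsg.1.1, (M.orbit_mem hG hk hc hbit).2 (of_decide_eq_true hBk)⟩
  set L := (List.range 4096).filter (sel (B 0) (B 1) (B 2) (B 3)) with hL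
  have hcount : (X.U0 \ (X.WV : Set (VV z))).ncard = L.length := by
    rw [← List.toFinset_card_of_nodup (List.Nodup.filter _ List.nodup_range), ← Set.ncard_coe_finset]
    symm
    refine Set.ncard_congr (fun c _ => vk z (M.elt c)) (fun c hc => ?_) (fun a b ha hb e => ?_) fun v hv => ?_
    · simp only [hL, List.coe_toFinset, Set.mem_setOf_eq, List.mem_filter, List.mem_range] at hc
      obtain ⟨h64, hU⟩ := (hsel c hc.1).2 hc.2
      exact ⟨hU, fun hw => by have := (M.elt_WV_iff hG hc.1).1 hw; omega⟩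
    · simp only [hL, List.coe_toFinset, Set.mem_setOf_eq, List.mem_filter, List.mem_range] at ha hb
      exact M.code_inj hG ha.1 hb.1 e
    · obtain ⟨x, hx, rfl⟩ := vk_surj v
      obtain ⟨c, hc, e⟩ := M.exists_code hG hx
      refine ⟨c, ?_, e⟩
      simp only [hL, List.coe_toFinset, Set.mem_setOf_eq, List.mem_filter, List.mem_range]
      refine ⟨hc, (hsel c hc).1 ⟨?_, e.symm ▸ hv.1⟩⟩
      by_contra hlt
      exact hv.2 (e ▸ (M.elt_WV_iff hG hc).2 (by omega))
  obtain ⟨n, hn, h45, hsum⟩ := X.U0_outside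
  rw [hcount] at hsum
  obtain ⟨k, hk, hbit⟩ := (sing_iff hc).1 hs
  refine (M.orbit_mem hG hk hc hbit).2 (of_decide_eq_true (?_ : B k = true))
  have hn' : L.length + 63 - 1386 = n := by omega
  rcases sel_arith (B 0) (B 1) (B 2) (B 3) with h | h | h
  · rw [← hL] at h; omega
  · rw [← hL, hn'] at h; exact absurd (Nat.mod_eq_zero_of_dvd hn) (fun e => h e)
  · simp only [Bool.and_eq_true] at h
    have : k = 0 ∨ k = 1 ∨ k = 2 ∨ k = 3 := by omega
    rcases this with rfl | rfl | rfl | rfl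
    exacts [h.1.1.1, h.1.1.2, h.1.2, h.2]

include M in
/-- An involution of `E` is conjugate into the subgroup of order `2 ^ 11`. -/
theorem EE_conj_std {x : G} (hx : x ∈ EE z) (h2 : x * x = 1) : ∃ g : G, g * x * g⁻¹ ∈ X.std := by
  obtain ⟨c, hc, e⟩ := M.exists_code hG hx
  rcases Nat.lt_or_ge c 64 with h | h
  · exact ⟨1, by simpa using X.preV_le_std ⟨hx, e ▸ (M.elt_WV_iff hG hc).2 h⟩⟩
  have hsq : M.elt c * M.elt c = 1 := by
    rw [← QQ_vk_eq_zero X.L.J (M.elt_EE hG hc), e, QQ_vk_eq_zero X.L.J hx]; exact h2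
  have hs : sing c = true := by
    simp only [sing, Bool.and_eq_true, Nat.ble_eq, Nat.blt_eq]
    exact ⟨⟨h, hc⟩, by rw [(M.elt_sq hc).1 hsq]; exact Nat.beq_refl _⟩
  obtain ⟨d, hd, hdv⟩ := M.all_singular hG hc hs
  rw [e, act_vk hd.1 hx] at hdv
  exact ⟨d, X.preV_le_std ⟨conj_mem_EE hd.1 hx, hdv⟩⟩

end Model

end Cfsg.Agent.J4V.Invol
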